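import Groth.Agent.CAlgML.ML
import Mathlib.LinearAlgebra.TensorProduct.DirectLimit
import Mathlib.LinearAlgebra.DirectSum.TensorProduct
import Mathlib.RingTheory.Finiteness.ModuleFinitePresentation
import Mathlib.RingTheory.Flat.FaithfullyFlat.Algebra
import Mathlib.LinearAlgebra.Quotient.Pi

/-! Permanence properties of Mittag-Leffler modules. -/

namespace Groth.Agent.CAlgML

open TensorProduct LinearMap
open CAlgX (UniversallyInjective)
open CAlg (IsMittagLeffler)

universe u

variable {R : Type u} [CommRing R]
variable {M N P : Type u} [AddCommGroup M] [Module R M] [AddCommGroup N] [Module R N]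
  [AddCommGroup P] [Module R P]

lemma ml_extension (f : M →ₗ[R] N) (g : N →ₗ[R] P) (hf : UniversallyInjective R f)
    (hg : Function.Surjective g) (hfg : Function.Exact f g) (h₁ : IsMittagLeffler R M)
    (h₃ : IsMittagLeffler R P) : IsMittagLeffler R N := by
  rw [ml_iff_zero] at *
  intro ι Q _ _ x hx
  have : g.rTensor _ x = 0 := h₃ ι Q _ fun i => by rw [piRightHom_rTensor, hx, map_zero]
  obtain ⟨y, rfl⟩ := (rTensor_exact _ hfg hg x).1 this
  rw [h₁ ι Q y fun i => hf (Q i) (by rw [map_zero, ← piRightHom_rTensor, hx]), map_zero]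

lemma ml_quotient_fg (S : Submodule R M) (hS : S.FG) (hM : IsMittagLeffler R M) :
    IsMittagLeffler R (M ⧸ S) := by
  have := Module.Finite.iff_fg.2 hS
  rw [ml_iff_zero] at *
  intro ι Q _ _ x hx
  obtain ⟨y, rfl⟩ := LinearMap.rTensor_surjective _ S.mkQ_surjective x
  have hy : ∀ i, ∃ z, S.subtype.rTensor (Q i) z = piRightHom R R M Q y i := fun i =>
    (rTensor_exact (Q i) (LinearMap.exact_subtype_mkQ S) S.mkQ_surjective _).1
      (by rw [← piRightHom_rTensor, hx])
  choose z hz using hy
  obtain ⟨w, hw⟩ := piRightHom_surjective_of_finite S ι Q z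
  have h0 : y - S.subtype.rTensor _ w = 0 := hM ι Q _ fun i => by
    rw [map_sub, Pi.sub_apply, piRightHom_rTensor, hw, hz, sub_self]
  rw [sub_eq_zero.1 h0]
  exact (rTensor_exact _ (LinearMap.exact_subtype_mkQ S) S.mkQ_surjective _).2 ⟨w, rfl⟩

/-- Every finitely generated family in a tensor product comes from a tensor product of finite free
modules. -/
lemma exists_map_fin {k : ℕ} (f : (Fin k → R) →ₗ[R] M ⊗[R] N) :
    ∃ (a b : ℕ) (u : (Fin a → R) →ₗ[R] M) (v : (Fin b → R) →ₗ[R] N)
      (f' : (Fin k → R) →ₗ[R] (Fin a → R) ⊗[R] (Fin b → R)), f = TensorProduct.map u v ∘ₗ f' := by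
  obtain ⟨M', N', hM', hN', hs⟩ := exists_finite_submodule_of_setFinite
    (Set.range fun i => f (Pi.single i 1)) (Set.finite_range _)
  obtain ⟨a, u, hu⟩ := Module.Finite.exists_fin' R M'
  obtain ⟨b, v, hv⟩ := Module.Finite.exists_fin' R N'
  have : ∀ i, ∃ t, TensorProduct.map (M'.subtype ∘ₗ u) (N'.subtype ∘ₗ v) t = f (Pi.single i 1) := by
    intro i
    obtain ⟨t, ht⟩ := hs ⟨i, rfl⟩
    obtain ⟨t', rfl⟩ := TensorProduct.map_surjective hu hv t
    exact ⟨t', by rw [TensorProduct.map_comp, LinearMap.comp_apply]; exact ht⟩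
  choose t ht using this
  refine ⟨a, b, M'.subtype ∘ₗ u, N'.subtype ∘ₗ v, Fintype.linearCombination R t,
    (Pi.basisFun R (Fin k)).ext fun i => ?_⟩
  simp only [Pi.basisFun_apply, LinearMap.comp_apply, Fintype.linearCombination_apply_single,
    one_smul, ht]

lemma ker_rTensor_rTensor {A B C : Type u} [AddCommGroup A] [Module R A] [AddCommGroup B]
    [Module R B] [AddCommGroup C] [Module R C] (f : A →ₗ[R] B) (g : A →ₗ[R] C)
    (h : ∀ (Q : Type u) [AddCommGroup Q] [Module R Q],
      LinearMap.ker (f.rTensor Q) = LinearMap.ker (g.rTensor Q))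
    (X Q : Type u) [AddCommGroup X] [Module R X] [AddCommGroup Q] [Module R Q] :
    LinearMap.ker ((f.rTensor X).rTensor Q) = LinearMap.ker ((g.rTensor X).rTensor Q) ∧
    LinearMap.ker ((f.lTensor X).rTensor Q) = LinearMap.ker ((g.lTensor X).rTensor Q) := by
  constructor
  · have e : ∀ {D : Type u} [AddCommGroup D] [Module R D] (k : A →ₗ[R] D) (x : (A ⊗[R] X) ⊗[R] Q),
        TensorProduct.assoc R D X Q ((k.rTensor X).rTensor Q x) =
          k.rTensor (X ⊗[R] Q) (TensorProduct.assoc R A X Q x) := by
      intro D _ _ k x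
      induction x with
      | zero => simp
      | tmul w q =>
        induction w with
        | zero => simp
        | tmul a x => simp
        | add a b ha hb => simp only [map_add, add_tmul, ha, hb]
      | add a b ha hb => simp only [map_add, ha, hb]
    ext x
    rw [LinearMap.mem_ker, LinearMap.mem_ker, ← (TensorProduct.assoc R B X Q).map_eq_zero_iff,
      ← (TensorProduct.assoc R C X Q).map_eq_zero_iff, e, e, ← LinearMap.mem_ker, h,
      LinearMap.mem_ker]
  · have e : ∀ {D : Type u} [AddCommGroup D] [Module R D] (k : A →ₗ[R] D) (x : (X ⊗[R] A) ⊗[R] Q),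
        ((TensorProduct.comm R X D).rTensor Q ≪≫ₗ TensorProduct.assoc R D X Q)
          ((k.lTensor X).rTensor Q x) =
          k.rTensor (X ⊗[R] Q) (((TensorProduct.comm R X A).rTensor Q ≪≫ₗ
            TensorProduct.assoc R A X Q) x) := by
      intro D _ _ k x
      induction x with
      | zero => simp
      | tmul w q =>
        induction w with
        | zero => simp
        | tmul a x => simp
        | add a b ha hb => simp only [map_add, add_tmul, ha, hb]
      | add a b ha hb => simp only [map_add, ha, hb]
    ext x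
    rw [LinearMap.mem_ker, LinearMap.mem_ker,
      ← ((TensorProduct.comm R X B).rTensor Q ≪≫ₗ TensorProduct.assoc R B X Q).map_eq_zero_iff,
      ← ((TensorProduct.comm R X C).rTensor Q ≪≫ₗ TensorProduct.assoc R C X Q).map_eq_zero_iff,
      e, e, ← LinearMap.mem_ker, h, LinearMap.mem_ker]

lemma finitePresentation_tensorProduct [Module.FinitePresentation R M]
    [Module.FinitePresentation R N] : Module.FinitePresentation R (M ⊗[R] N) := by
  obtain ⟨n, m, p, g, hp, hgp⟩ := Module.FinitePresentation.exists_fin' R N
  have h1 : Module.FinitePresentation R (Fin n → M) := by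
    have : Module.FinitePresentation R (M ⊗[R] (Fin n → R)) := by
      obtain ⟨a, b, q, r, hq, hrq⟩ := Module.FinitePresentation.exists_fin' R M
      have := Module.finitePresentation_of_projective R ((Fin a → R) ⊗[R] (Fin n → R))
      refine Module.finitePresentation_of_surjective (q.rTensor (Fin n → R))
        (LinearMap.rTensor_surjective _ hq) ?_
      rw [LinearMap.exact_iff.1 (rTensor_exact _ hrq hq), LinearMap.range_eq_map]
      exact Module.Finite.fg_top.map _
    exact Module.FinitePresentation.of_equiv (piScalarRight R R M (Fin n))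
  have h2 : Module.FinitePresentation R (M ⊗[R] (Fin n → R)) :=
    Module.FinitePresentation.of_equiv (piScalarRight R R M (Fin n)).symm
  refine Module.finitePresentation_of_surjective (p.lTensor M) (LinearMap.lTensor_surjective _ hp) ?_
  rw [LinearMap.exact_iff.1 (lTensor_exact M hgp hp), LinearMap.range_eq_map]
  exact Module.Finite.fg_top.map _

lemma ml_tensorProduct (hM : IsMittagLeffler R M) (hN : IsMittagLeffler R N) :
    IsMittagLeffler R (M ⊗[R] N) := by
  refine ml_of_forall_free_dominate fun k f => ?_
  obtain ⟨a, b, u, v, f', rfl⟩ := exists_map_fin f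
  obtain ⟨A, _, _, _, gu, hu⟩ := exists_dominating' hM u
  obtain ⟨B, _, _, _, gv, hv⟩ := exists_dominating' hN v
  refine ⟨A ⊗[R] B, _, _, finitePresentation_tensorProduct, TensorProduct.map gu gv ∘ₗ f',
    fun Q _ _ => ?_⟩
  simp only [LinearMap.rTensor_comp, LinearMap.ker_comp]
  congr 1
  rw [← LinearMap.rTensor_comp_lTensor (f := u) (g := v), LinearMap.rTensor_comp, LinearMap.ker_comp,
    (ker_rTensor_rTensor u gu hu N Q).1, ← LinearMap.ker_comp, ← LinearMap.rTensor_comp,
    LinearMap.rTensor_comp_lTensor, ← LinearMap.lTensor_comp_rTensor (f := gu) (g := v), LinearMap.rTensor_comp,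
    LinearMap.ker_comp, (ker_rTensor_rTensor v gv hv A Q).2, ← LinearMap.ker_comp,
    ← LinearMap.rTensor_comp, LinearMap.lTensor_comp_rTensor]

lemma ml_directSum {ι : Type u} (G : ι → Type u) [∀ i, AddCommGroup (G i)] [∀ i, Module R (G i)] :
    IsMittagLeffler R (DirectSum ι G) ↔ ∀ i, IsMittagLeffler R (G i) := by
  classical
  constructor
  · intro h i
    exact ml_of_ui (DirectSum.lof R ι G i) (UI.of_leftInverse (DirectSum.component R ι G i)
      (LinearMap.ext fun x => DirectSum.component.lof_self R i x)) h
  · intro h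
    rw [ml_iff_zero]
    intro κ Q _ _ x hx
    have key : ∀ {V : Type u} [AddCommGroup V] [Module R V] (y : DirectSum ι G ⊗[R] V) (i : ι),
        TensorProduct.directSumLeft R R G V y i = (DirectSum.component R ι G i).rTensor V y := by
      intro V _ _ y i
      induction y with
      | zero => simp
      | tmul m n => simp [TensorProduct.directSumLeft_tmul]; rfl
      | add a b ha hb => simp only [map_add, DirectSum.add_apply, ha, hb]
    apply (TensorProduct.directSumLeft R R G _).injective
    refine DirectSum.ext_component R fun i => ?_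
    simp only [map_zero, ← DirectSum.apply_eq_component, DirectSum.zero_apply]
    rw [key]
    exact ml_iff_zero.1 (h i) κ Q _ fun c => by rw [piRightHom_rTensor, hx, map_zero]

section DirectLimit

variable {ι : Type u} [Preorder ι] [IsDirected ι (· ≤ ·)] [DecidableEq ι] (G : ι → Type u)
  [∀ i, AddCommGroup (G i)] [∀ i, Module R (G i)] (f : ∀ i j, i ≤ j → G i →ₗ[R] G j)
  [DirectedSystem G fun i j h => f i j h]

lemma directedSystem_rTensor (Q : Type u) [AddCommGroup Q] [Module R Q] :
    DirectedSystem (fun i => G i ⊗[R] Q) fun i j h => (f i j h).rTensor Q where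
  map_self i x := by
    induction x with
    | zero => simp
    | tmul a b => simp [DirectedSystem.map_self (f := fun i j h => f i j h)]
    | add a b ha hb => simp [ha, hb]
  map_map k j i hij hjk x := by
    induction x with
    | zero => simp
    | tmul a b => simp [DirectedSystem.map_map (f := fun i j h => f i j h)]
    | add a b ha hb => simp [ha, hb]

lemma exists_of_rTensor_eq_zero {i : ι} {Q : Type u} [AddCommGroup Q] [Module R Q]
    (x : G i ⊗[R] Q) (hx : (Module.DirectLimit.of R ι G f i).rTensor Q x = 0) :
    ∃ (j : ι) (h : i ≤ j), (f i j h).rTensor Q x = 0 := by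
  have := directedSystem_rTensor G f Q
  refine Module.DirectLimit.of.zero_exact (f := fun i j h => (f i j h).rTensor Q) ?_
  rw [← TensorProduct.directLimitLeft_rTensor_of, hx, map_zero]

lemma exists_rTensor_of_eq [Nonempty ι] {Q : Type u} [AddCommGroup Q] [Module R Q]
    (x : Module.DirectLimit G f ⊗[R] Q) :
    ∃ (i : ι) (y : G i ⊗[R] Q), (Module.DirectLimit.of R ι G f i).rTensor Q y = x := by
  have := directedSystem_rTensor G f Q
  obtain ⟨i, y, hy⟩ := Module.DirectLimit.exists_of (TensorProduct.directLimitLeft f Q x)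
  refine ⟨i, y, (TensorProduct.directLimitLeft f Q).injective ?_⟩
  rw [TensorProduct.directLimitLeft_rTensor_of, hy]

lemma ml_directLimit_of_ui (hf : ∀ i j (h : i ≤ j), UniversallyInjective R (f i j h))
    (hG : ∀ i, IsMittagLeffler R (G i)) : IsMittagLeffler R (Module.DirectLimit G f) := by
  rw [ml_iff_zero]
  intro κ Q _ _ x hx
  rcases isEmpty_or_nonempty ι with hι | hι
  · have : Subsingleton (Module.DirectLimit G f) := by
      have hall : ∀ z : Module.DirectLimit G f, z = 0 := fun z => by
        have hid : (LinearMap.id : Module.DirectLimit G f →ₗ[R] _) = 0 :=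
          Module.DirectLimit.hom_ext fun i => hι.elim i
        exact congr($hid z)
      exact ⟨fun a b => (hall a).trans (hall b).symm⟩
    exact Subsingleton.elim _ _
  obtain ⟨i, y, rfl⟩ := exists_rTensor_of_eq G f x
  rw [ml_iff_zero.1 (hG i) κ Q y fun c => ?_, map_zero]
  obtain ⟨j, hij, hj⟩ := exists_of_rTensor_eq_zero G f (piRightHom R R (G i) Q y c)
    (by rw [← piRightHom_rTensor, hx])
  exact hf i j hij (Q c) (hj.trans (map_zero _).symm)

/-- In a Mittag-Leffler colimit of finitely presented modules kernels stabilise. -/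
lemma exists_dominates_transition [∀ i, Module.FinitePresentation R (G i)]
    (h : IsMittagLeffler R (Module.DirectLimit G f)) (i : ι) :
    ∃ (j : ι) (hij : i ≤ j), ∀ (Q : Type u) [AddCommGroup Q] [Module R Q] (x : G i ⊗[R] Q),
      (Module.DirectLimit.of R ι G f i).rTensor Q x = 0 → (f i j hij).rTensor Q x = 0 := by
  let J := {j : ι // i ≤ j}
  by_contra hno
  have key : ∀ j : J, ∃ (Q : Type u) (_ : AddCommGroup Q) (_ : Module R Q) (x : G i ⊗[R] Q),
      (Module.DirectLimit.of R ι G f i).rTensor Q x = 0 ∧ (f i j.1 j.2).rTensor Q x ≠ 0 := by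
    intro j
    by_contra hc
    refine hno ⟨j.1, j.2, fun Q _ _ x hx => ?_⟩
    by_contra hx'
    exact hc ⟨Q, _, _, x, hx, hx'⟩
  choose Q iA iM x hx hfx using key
  let _ := iA
  let _ := iM
  obtain ⟨y, hy⟩ := (piRightHom_bijective_of_finitePresentation (G i) J Q).2 x
  obtain ⟨j, hij, hj⟩ := exists_of_rTensor_eq_zero G f y
    (ml_iff_zero.1 h J Q _ fun c => by rw [piRightHom_rTensor, hy, hx])
  apply hfx ⟨j, hij⟩
  have := piRightHom_rTensor (f i j hij) y (⟨j, hij⟩ : J)
  rw [hj, hy, map_zero] at this
  exact this.symm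

lemma ml_directLimit_iff [Nonempty ι] [∀ i, Module.FinitePresentation R (G i)] :
    IsMittagLeffler R (Module.DirectLimit G f) ↔
      ∀ i, ∃ (j : ι) (hij : i ≤ j), ∀ (k : ι) (hik : i ≤ k),
        ∃ h : G k →ₗ[R] G j, f i j hij = h ∘ₗ f i k hik := by
  constructor
  · intro h i
    obtain ⟨j, hij, hj⟩ := exists_dominates_transition G f h i
    refine ⟨j, hij, fun k hik => ?_⟩
    have : Module.FinitePresentation R (G k ⧸ LinearMap.range (f i k hik)) :=
      Module.finitePresentation_of_surjective _ (Submodule.mkQ_surjective _) (by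
        rw [Submodule.ker_mkQ, LinearMap.range_eq_map]
        exact Module.Finite.fg_top.map _)
    refine exists_factor_of_dominates _ _ fun Q _ _ x hx => hj Q x ?_
    have hcomp : Module.DirectLimit.of R ι G f k ∘ₗ f i k hik = Module.DirectLimit.of R ι G f i :=
      LinearMap.ext fun a => Module.DirectLimit.of_f
    rw [← hcomp, LinearMap.rTensor_comp, LinearMap.comp_apply, LinearMap.mem_ker.1 hx, map_zero]
  · intro h
    refine ml_of_dominated fun κ Q _ _ x => ?_
    obtain ⟨i, y, hy⟩ := exists_rTensor_of_eq G f x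
    obtain ⟨j, hij, hj⟩ := h i
    refine ⟨G i, G j, _, _, _, _, Module.DirectLimit.of R ι G f i, f i j hij, y, hy,
      ml_of_finitePresentation _, fun Q _ _ => le_antisymm ?_ ?_⟩
    · intro z hz
      obtain ⟨k, hik, hk⟩ := exists_of_rTensor_eq_zero G f z hz
      obtain ⟨φ, hφ⟩ := hj k hik
      rw [LinearMap.mem_ker, hφ, LinearMap.rTensor_comp, LinearMap.comp_apply, hk, map_zero]
    · intro z hz
      have hcomp : Module.DirectLimit.of R ι G f j ∘ₗ f i j hij = Module.DirectLimit.of R ι G f i :=
        LinearMap.ext fun a => Module.DirectLimit.of_f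
      rw [LinearMap.mem_ker, ← hcomp, LinearMap.rTensor_comp, LinearMap.comp_apply,
        LinearMap.mem_ker.1 hz, map_zero]

end DirectLimit

section Flat

/-- A flat Mittag-Leffler module has smallest supporting submodules. -/
theorem exists_smallest_submodule [Module.Flat R M] (hM : IsMittagLeffler R M) {F : Type u}
    [AddCommGroup F] [Module R F] (x : F ⊗[R] M) :
    ∃ F' : Submodule R F, F'.FG ∧ x ∈ LinearMap.range (F'.subtype.rTensor M) ∧
      ∀ F'' : Submodule R F, x ∈ LinearMap.range (F''.subtype.rTensor M) → F' ≤ F'' := by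
  let S := {F'' : Submodule R F // x ∈ LinearMap.range (F''.subtype.rTensor M)}
  let π : F →ₗ[R] ∀ s : S, F ⧸ s.1 := LinearMap.pi fun s => s.1.mkQ
  let F' := LinearMap.ker π
  have hx0 : π.rTensor M x = 0 := by
    apply (TensorProduct.comm R _ _).injective
    rw [map_zero]
    refine ml_iff_zero.1 hM S _ _ fun s => ?_
    obtain ⟨z, hz⟩ := s.2
    have h0 : s.1.mkQ.rTensor M x = 0 :=
      (rTensor_exact M (LinearMap.exact_subtype_mkQ s.1) s.1.mkQ_surjective x).2 ⟨z, hz⟩
    have key : ∀ w, piRightHom R R M (fun t : S => F ⧸ t.1) (TensorProduct.comm R _ M (π.rTensor M w)) s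
        = TensorProduct.comm R (F ⧸ s.1) M (s.1.mkQ.rTensor M w) := by
      intro w
      induction w with
      | zero => simp
      | tmul a b => simp [π]
      | add a b ha hb => simp only [map_add, Pi.add_apply, ha, hb]
    rw [key, h0, map_zero]
  have hx : x ∈ LinearMap.range (F'.subtype.rTensor M) := by
    refine (rTensor_exact M (LinearMap.exact_subtype_mkQ F') F'.mkQ_surjective x).1 ?_
    apply Module.Flat.rTensor_preserves_injective_linearMap (M := M) (F'.liftQ π le_rfl)
      (LinearMap.ker_eq_bot.1 (Submodule.ker_liftQ_eq_bot _ _ _ le_rfl))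
    rw [map_zero, ← LinearMap.comp_apply, ← LinearMap.rTensor_comp, Submodule.liftQ_mkQ, hx0]
  have hmin : ∀ F'' : Submodule R F, x ∈ LinearMap.range (F''.subtype.rTensor M) → F' ≤ F'' := by
    intro F'' h a ha
    have := congrFun (LinearMap.mem_ker.1 ha) ⟨F'', h⟩
    simpa [π, Submodule.Quotient.mk_eq_zero] using this
  refine ⟨F', ?_, hx, hmin⟩
  obtain ⟨z, hz⟩ := hx
  obtain ⟨k, a, b, rfl⟩ := exists_sum_tmul_eq z
  let F1 := Submodule.span R (Set.range fun i => (a i : F))
  have h1 : F1 ≤ F' := Submodule.span_le.2 (by rintro _ ⟨i, rfl⟩; exact (a i).2)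
  have h2 : F' ≤ F1 := hmin F1 ⟨∑ i, (⟨a i, Submodule.subset_span ⟨i, rfl⟩⟩ : F1) ⊗ₜ b i, by
    rw [← hz]; simp only [map_sum, rTensor_tmul, Submodule.subtype_apply]⟩
  exact le_antisymm h2 h1 ▸ Submodule.fg_span (Set.finite_range _)

theorem ml_of_smallest_submodule [Module.Flat R M]
    (h : ∀ (n : ℕ) (x : (Fin n → R) ⊗[R] M),
      ∃ F' : Submodule R (Fin n → R), x ∈ LinearMap.range (F'.subtype.rTensor M) ∧
        ∀ F'' : Submodule R (Fin n → R), x ∈ LinearMap.range (F''.subtype.rTensor M) → F' ≤ F'') :
    IsMittagLeffler R M := by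
  classical
  refine ml_of_forall_free_dominate fun n f => ?_
  obtain ⟨F', hx, hmin⟩ := h n (∑ i, Pi.single i 1 ⊗ₜ f (Pi.single i 1))
  obtain ⟨z, hz⟩ := hx
  obtain ⟨r, a, b, rfl⟩ := exists_sum_tmul_eq z
  let g : (Fin n → R) →ₗ[R] (Fin r → R) :=
    Fintype.linearCombination R fun i k => (a k : Fin n → R) i
  have hf : f = Fintype.linearCombination R b ∘ₗ g := by
    refine (Pi.basisFun R (Fin n)).ext fun i => ?_
    have := congrArg (TensorProduct.lid R M ∘ (LinearMap.proj (R := R) (φ := fun _ : Fin n => R) i).rTensor M) hz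
    simp only [Function.comp_apply, map_sum, rTensor_tmul, Submodule.subtype_apply, proj_apply,
      lid_tmul] at this
    rw [Finset.sum_eq_single i (fun j _ hj => by simp [Pi.single_eq_of_ne hj.symm]) (by simp),
      Pi.single_eq_same, one_smul] at this
    simp [g, Fintype.linearCombination_apply_single, Fintype.linearCombination_apply, this]
  refine ⟨Fin r → R, _, _, inferInstance, g, fun N _ _ => le_antisymm ?_ ?_⟩
  · intro w hw
    let c := piScalarRight R R N (Fin n) (TensorProduct.comm R _ _ w)
    let ψ : (Fin n → R) →ₗ[R] N := Fintype.linearCombination R c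
    have key : ∀ (m : ℕ) (v : Fin n → Fin m → R) (w : (Fin n → R) ⊗[R] N) (k : Fin m),
        piScalarRight R R N (Fin m) (TensorProduct.comm R _ _
          ((Fintype.linearCombination R v).rTensor N w)) k
          = ∑ i, v i k • piScalarRight R R N (Fin n) (TensorProduct.comm R _ _ w) i := by
      intro m v w k
      induction w with
      | zero => simp
      | tmul p q => simp [Fintype.linearCombination_apply, Finset.sum_smul, smul_smul, mul_comm]
      | add p q hp hq => simp only [map_add, Pi.add_apply, hp, hq, smul_add, Finset.sum_add_distrib]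
    have key2 : ∀ w : (Fin n → R) ⊗[R] N, f.rTensor N w = ∑ i, f (Pi.single i 1) ⊗ₜ
        piScalarRight R R N (Fin n) (TensorProduct.comm R _ _ w) i := by
      intro w
      induction w with
      | zero => simp
      | tmul p q =>
        have hp : ∑ i, p i • f (Pi.single i 1) = f p := by
          simp_rw [← map_smul, ← map_sum]
          congr 1
          simpa using (Pi.basisFun R (Fin n)).sum_repr p
        simp [← hp, sum_tmul, smul_tmul]
      | add p q hp hq => simp only [map_add, Pi.add_apply, hp, hq, tmul_add, Finset.sum_add_distrib]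
    have hψx : ψ.rTensor M (∑ i, Pi.single i 1 ⊗ₜ f (Pi.single i 1)) = 0 := by
      apply (TensorProduct.comm R _ _).injective
      simp only [map_sum, rTensor_tmul, TensorProduct.comm_tmul, ψ,
        Fintype.linearCombination_apply_single, one_smul, map_zero]
      rw [← key2 w, LinearMap.mem_ker.1 hw]
    have hker : F' ≤ LinearMap.ker ψ := hmin _
      ((Module.Flat.rTensor_exact M (LinearMap.exact_subtype_ker_map ψ) _).1 hψx)
    rw [LinearMap.mem_ker]
    apply (TensorProduct.comm R _ _ ≪≫ₗ piScalarRight R R N (Fin r)).injective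
    ext k
    rw [LinearEquiv.trans_apply, key, map_zero, Pi.zero_apply]
    exact (by simp [ψ, c, Fintype.linearCombination_apply] :
      _ = ψ (a k : Fin n → R)).trans (LinearMap.mem_ker.1 (hker (a k).2))
  · rw [hf, LinearMap.rTensor_comp]
    exact LinearMap.ker_le_ker_comp _ _

lemma flat_pi_of_coherent (hR : ∀ I : Ideal R, I.FG → Module.FinitePresentation R I) (A : Type u) :
    Module.Flat R (A → R) := by
  rw [Module.Flat.iff_rTensor_injective]
  intro I hI
  have := hR I hI
  intro x y hxy
  apply (piRightHom_bijective_of_finitePresentation I A (fun _ => R)).1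
  funext a
  apply Module.Flat.rTensor_preserves_injective_linearMap (M := R) (Submodule.subtype I)
    (Submodule.injective_subtype _)
  exact ((piRightHom_rTensor (Q := fun _ : A => R) (Submodule.subtype I) x a).symm.trans
    (by rw [hxy])).trans (piRightHom_rTensor (Q := fun _ : A => R) (Submodule.subtype I) y a)

lemma finitePresentation_submodule_of_flat_pi (hflat : ∀ A : Type u, Module.Flat R (A → R))
    [Module.FinitePresentation R M] (S : Submodule R M) (hS : S.FG) :
    Module.FinitePresentation R S := by
  have := Module.Finite.iff_fg.2 hS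
  refine finitePresentation_of_piRightHom_bijective fun κ =>
    ⟨?_, piRightHom_surjective_of_finite S κ _⟩
  intro x y hxy
  have := hflat κ
  apply Module.Flat.rTensor_preserves_injective_linearMap (M := κ → R) S.subtype
    (Submodule.injective_subtype _)
  apply (piRightHom_bijective_of_finitePresentation M κ (fun _ => R)).1
  funext a
  rw [piRightHom_rTensor, piRightHom_rTensor, hxy]

lemma piRightHom_injective_of_noetherian [IsNoetherianRing R] (A : Type u) :
    Function.Injective (piRightHom R R M (fun _ : A => R)) := by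
  rw [← LinearMap.ker_eq_bot, LinearMap.ker_eq_bot']
  intro x hx
  obtain ⟨k, q, y, hy⟩ := exists_lTensor_fin_eq (TensorProduct.comm R _ _ x)
  let M0 := LinearMap.range q
  have hM0 : Module.Finite R M0 := Module.Finite.range q
  have := Module.finitePresentation_of_finite R M0
  obtain ⟨x0, rfl⟩ : x ∈ LinearMap.range (M0.subtype.rTensor (A → R)) := by
    refine ⟨TensorProduct.comm R _ _ (q.rangeRestrict.lTensor _ y), ?_⟩
    apply (TensorProduct.comm R _ _).injective
    rw [← hy]
    generalize y = z
    induction z with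
    | zero => simp
    | tmul a b => simp [M0]
    | add a b ha hb => simp [ha, hb]
  suffices h0 : x0 = 0 by rw [h0, map_zero]
  apply (piRightHom_bijective_of_finitePresentation M0 A (fun _ => R)).1
  rw [map_zero]
  funext a
  apply Module.Flat.rTensor_preserves_injective_linearMap (M := R) M0.subtype
    (Submodule.injective_subtype _)
  exact ((piRightHom_rTensor (Q := fun _ : A => R) M0.subtype x0 a).symm.trans
    (by rw [hx]; rfl)).trans (map_zero _).symm

lemma ml_pi_of_noetherian [IsNoetherianRing R] (A : Type u) : IsMittagLeffler R (A → R) := by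
  rw [ml_iff_zero]
  intro κ Q _ _ x hx
  apply (TensorProduct.comm R _ _).injective
  apply piRightHom_injective_of_noetherian (M := ∀ i, Q i) A
  rw [map_zero, map_zero]
  funext a
  apply (TensorProduct.rid R _).injective
  rw [Pi.zero_apply, map_zero]
  funext i
  have key : ∀ x : (A → R) ⊗[R] (∀ i, Q i),
      TensorProduct.rid R _ (piRightHom R R (∀ i, Q i) (fun _ : A => R)
        (TensorProduct.comm R _ _ x) a) i
      = TensorProduct.lid R _ ((LinearMap.proj (R := R) (φ := fun _ : A => R) a).rTensor _
          (piRightHom R R (A → R) Q x i)) := by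
    intro x
    induction x with
    | zero => simp
    | tmul p q => simp
    | add p q hp hq => simp only [map_add, Pi.add_apply, hp, hq]
  rw [key, hx i]
  simp

end Flat

section ChangeOfRings

variable {S : Type u} [CommRing S] [Algebra R S]

/-- The element of `M ⊗_S ∏ (S ⊗_R Qᵢ)` attached to `x` dies when `x` dies componentwise. -/
lemma lTensor_pi_eq_zero {L : Type u} [AddCommGroup L] [Module S L] [Module R L]
    [IsScalarTower R S L] (hL : IsMittagLeffler S L) {ι : Type u} {Q : ι → Type u}
    [∀ i, AddCommGroup (Q i)] [∀ i, Module R (Q i)] (x : L ⊗[R] (∀ i, Q i))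
    (hx : ∀ i, piRightHom R R L Q x i = 0) :
    (piRightHom R S S Q).lTensor L
      ((AlgebraTensorModule.cancelBaseChange R S S L (∀ i, Q i)).symm x) = 0 := by
  refine ml_iff_zero.1 hL ι (fun i => S ⊗[R] Q i) _ fun i => ?_
  have key : ∀ x : L ⊗[R] (∀ i, Q i),
      piRightHom S S L (fun i => S ⊗[R] Q i) ((piRightHom R S S Q).lTensor L
        ((AlgebraTensorModule.cancelBaseChange R S S L (∀ i, Q i)).symm x)) i
      = (AlgebraTensorModule.cancelBaseChange R S S L (Q i)).symm (piRightHom R R L Q x i) := by
    intro x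
    induction x with
    | zero => simp
    | tmul p q => simp
    | add p q hp hq => simp only [map_add, Pi.add_apply, hp, hq]
  rw [key, hx, map_zero]

lemma ml_restrictScalars_of_flat {L : Type u} [AddCommGroup L] [Module S L] [Module R L]
    [IsScalarTower R S L] (hS : IsMittagLeffler R S) [Module.Flat S L]
    (hL : IsMittagLeffler S L) : IsMittagLeffler R L := by
  rw [ml_iff_zero]
  intro ι Q _ _ x hx
  apply (AlgebraTensorModule.cancelBaseChange R S S L (∀ i, Q i)).symm.injective
  rw [map_zero]
  apply Module.Flat.lTensor_preserves_injective_linearMap (M := L) (piRightHom R S S Q) (hS ι Q)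
  rw [map_zero]
  exact lTensor_pi_eq_zero hL x hx

lemma ml_restrictScalars_of_finitePresentation {L : Type u} [AddCommGroup L] [Module S L]
    [Module R L] [IsScalarTower R S L] [Module.FinitePresentation R S]
    (hL : IsMittagLeffler S L) : IsMittagLeffler R L := by
  rw [ml_iff_zero]
  intro ι Q _ _ x hx
  let u := LinearEquiv.ofBijective (piRightHom R S S Q)
    (piRightHom_bijective_of_finitePresentation S ι Q)
  apply (AlgebraTensorModule.cancelBaseChange R S S L (∀ i, Q i)).symm.injective
  rw [map_zero]
  apply (LinearEquiv.lTensor L u).injective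
  rw [map_zero]
  exact lTensor_pi_eq_zero hL x hx

lemma ml_of_algebraMap_surjective (hsurj : Function.Surjective (algebraMap R S)) {L : Type u}
    [AddCommGroup L] [Module S L] [Module R L] [IsScalarTower R S L]
    (hL : IsMittagLeffler R L) : IsMittagLeffler S L := by
  rw [ml_iff_zero]
  intro ι Q _ _ x hx
  let _ : ∀ i, Module R (Q i) := fun i => Module.compHom (Q i) (algebraMap R S)
  have : ∀ i, IsScalarTower R S (Q i) := fun i => IsScalarTower.of_algebraMap_smul fun r m => rfl
  obtain ⟨y, rfl⟩ := TensorProduct.mapOfCompatibleSMul_surjective S R R L (∀ i, Q i) x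
  rw [ml_iff_zero.1 hL ι Q y fun i => ?_, map_zero]
  have : CompatibleSMul R S L (Q i) := ⟨fun s a b => by
    obtain ⟨r, rfl⟩ := hsurj s
    simp only [algebraMap_smul]
    exact TensorProduct.smul_tmul r a b⟩
  have key : ∀ y : L ⊗[R] (∀ i, Q i),
      TensorProduct.mapOfCompatibleSMul S R R L (Q i) (piRightHom R R L Q y i) =
        piRightHom S S L Q (TensorProduct.mapOfCompatibleSMul S R R L _ y) i := by
    intro y
    induction y with
    | zero => simp
    | tmul p q => simp
    | add p q hp hq => simp only [map_add, Pi.add_apply, hp, hq]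
  have hinj : Function.Injective (TensorProduct.mapOfCompatibleSMul S R R L (Q i)) :=
    (TensorProduct.equivOfCompatibleSMul S R R L (Q i)).injective
  exact hinj ((key y).trans ((hx i).trans (map_zero _).symm))

/-- `(S ⊗ M) ⊗_S V = M ⊗ V`. -/
noncomputable def baseChangeTensor (V : Type u) [AddCommGroup V] [Module S V] [Module R V]
    [IsScalarTower R S V] : (S ⊗[R] M) ⊗[S] V ≃+ M ⊗[R] V :=
  ((TensorProduct.comm S _ _).toAddEquiv.trans
    (AlgebraTensorModule.cancelBaseChange R S S V M).toAddEquiv).trans
      (TensorProduct.comm R _ _).toAddEquiv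

@[simp] lemma baseChangeTensor_symm_tmul (V : Type u) [AddCommGroup V] [Module S V] [Module R V]
    [IsScalarTower R S V] (m : M) (v : V) :
    (baseChangeTensor (S := S) V).symm (m ⊗ₜ[R] v) = ((1 : S) ⊗ₜ m) ⊗ₜ[S] v := by
  simp [baseChangeTensor]

lemma eq_zero_of_baseChange_ml (h : IsMittagLeffler S (S ⊗[R] M)) {ι : Type u} {V : ι → Type u}
    [∀ i, AddCommGroup (V i)] [∀ i, Module S (V i)] [∀ i, Module R (V i)]
    [∀ i, IsScalarTower R S (V i)] (x : M ⊗[R] (∀ i, V i))
    (hx : ∀ i, piRightHom R R M V x i = 0) : x = 0 := by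
  apply (baseChangeTensor (S := S) (M := M) _).symm.injective
  rw [map_zero]
  refine ml_iff_zero.1 h ι V _ fun i => ?_
  have key : ∀ x : M ⊗[R] (∀ i, V i),
      piRightHom S S (S ⊗[R] M) V ((baseChangeTensor _).symm x) i =
        (baseChangeTensor (V i)).symm (piRightHom R R M V x i) := by
    intro x
    induction x with
    | zero => simp
    | tmul p q => simp
    | add p q hp hq => simp only [map_add, Pi.add_apply, hp, hq]
  rw [key, hx, map_zero]

lemma ml_baseChange (hM : IsMittagLeffler R M) : IsMittagLeffler S (S ⊗[R] M) := by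
  rw [ml_iff_zero]
  intro ι Q _ _ x hx
  let _ : ∀ i, Module R (Q i) := fun i => Module.compHom (Q i) (algebraMap R S)
  have : ∀ i, IsScalarTower R S (Q i) := fun i => IsScalarTower.of_algebraMap_smul fun r m => rfl
  obtain ⟨y, rfl⟩ := (baseChangeTensor (S := S) (M := M) (∀ i, Q i)).symm.surjective x
  rw [ml_iff_zero.1 hM ι Q y fun i => ?_, map_zero]
  have key : ∀ y : M ⊗[R] (∀ i, Q i),
      piRightHom S S (S ⊗[R] M) Q ((baseChangeTensor _).symm y) i =
        (baseChangeTensor (Q i)).symm (piRightHom R R M Q y i) := by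
    intro y
    induction y with
    | zero => simp
    | tmul p q => simp
    | add p q hp hq => simp only [map_add, Pi.add_apply, hp, hq]
  apply (baseChangeTensor (S := S) (M := M) (Q i)).symm.injective
  rw [← key, hx i, map_zero]

lemma ui_mk_one [Module.FaithfullyFlat R S] (Q : Type u) [AddCommGroup Q] [Module R Q] :
    UniversallyInjective R (TensorProduct.mk R S Q 1) := by
  intro X _ _
  refine Function.Injective.of_comp (f := TensorProduct.assoc R S Q X) ?_
  have : ⇑(TensorProduct.assoc R S Q X) ∘ (TensorProduct.mk R S Q 1).rTensor X =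
      TensorProduct.mk R S (Q ⊗[R] X) 1 := by
    funext w
    induction w with
    | zero => simp
    | tmul p q => simp
    | add p q hp hq => simp only [Function.comp_apply, map_add] at hp hq ⊢; rw [hp, hq]
  rw [this]
  exact Module.FaithfullyFlat.tensorProduct_mk_injective _

lemma ml_descent [Module.FaithfullyFlat R S] (h : IsMittagLeffler S (S ⊗[R] M)) :
    IsMittagLeffler R M := by
  rw [ml_iff_zero]
  intro ι Q _ _ x hx
  apply (ui_iff_lTensor _).1 (ui_pi (fun i => TensorProduct.mk R S (Q i) 1)
    (fun i => ui_mk_one (Q i))) M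
  rw [map_zero]
  refine eq_zero_of_baseChange_ml h _ fun i => ?_
  rw [piRightHom_lTensor, hx, map_zero]

end ChangeOfRings

end Groth.Agent.CAlgML
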