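import Groth.Agent.CAlgML.MLProps

/-! Countably generated Mittag-Leffler modules. -/

namespace Groth.Agent.CAlgML

open TensorProduct LinearMap
open CAlgX (UniversallyInjective)
open CAlg (IsMittagLeffler IsCountablyGenerated)

universe u

variable {R : Type u} [CommRing R]
variable {M : Type u} [AddCommGroup M] [Module R M]

/-- A compatible family of maps on an increasing union of ranges glues. -/
lemma exists_glue {Q : ℕ → Type u} [∀ k, AddCommGroup (Q k)] [∀ k, Module R (Q k)]
    {Z : Type u} [AddCommGroup Z] [Module R Z] (h : ∀ k, Q k →ₗ[R] M)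
    (g : ∀ k, Q k →ₗ[R] Q (k + 1)) (hg : ∀ k, h (k + 1) ∘ₗ g k = h k)
    (hker : ∀ k y, h k y = 0 → g k y = 0) (hgen : ∀ x, ∃ k, x ∈ LinearMap.range (h k))
    (σ : ∀ k, Q k →ₗ[R] Z) (hσ : ∀ k, σ (k + 1) ∘ₗ g k = σ k) :
    ∃ b : M →ₗ[R] Z, ∀ k, b ∘ₗ h k = σ k := by
  have step : ∀ {k l}, k ≤ l → ∀ y : Q k, ∃ y' : Q l, h l y' = h k y ∧ σ l y' = σ k y := by
    intro k l hkl
    induction hkl with
    | refl => exact fun y => ⟨y, rfl, rfl⟩
    | @step l _ ih =>
      intro y
      obtain ⟨y', h1, h2⟩ := ih y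
      exact ⟨g l y', by rw [← h1, ← hg l]; rfl, by rw [← h2, ← hσ l]; rfl⟩
  have wd : ∀ {k l} (y : Q k) (y' : Q l), h k y = h l y' → σ k y = σ l y' := by
    intro k l y y' e
    obtain ⟨a, ha, ha'⟩ := step (le_max_left k l) y
    obtain ⟨b, hb, hb'⟩ := step (le_max_right k l) y'
    have h0 : σ (max k l) (a - b) = 0 := by
      rw [← hσ, LinearMap.comp_apply, hker _ _ (by rw [map_sub, ha, hb, e, sub_self]), map_zero]
    rw [← ha', ← hb']
    rwa [map_sub, sub_eq_zero] at h0
  choose k y hy using fun x => hgen x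
  refine ⟨{ toFun := fun x => σ (k x) (y x), map_add' := ?_, map_smul' := ?_ },
    fun l => LinearMap.ext fun z => wd _ _ (hy (h l z))⟩
  · intro x x'
    obtain ⟨a, ha, ha'⟩ := step (le_max_left (k x) (k x')) (y x)
    obtain ⟨b, hb, hb'⟩ := step (le_max_right (k x) (k x')) (y x')
    rw [← ha', ← hb', ← map_add]
    exact wd _ _ (by rw [hy, map_add, ha, hb, hy, hy])
  · intro r x
    rw [RingHom.id_apply, ← map_smul]
    exact wd _ _ (by rw [hy, map_smul, hy])

/-- A finitely presented module over `M`. -/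
structure Stage (R : Type u) [CommRing R] (M : Type u) [AddCommGroup M] [Module R M] : Type u where
  N : ℕ
  L : Submodule R (Fin N → R)
  fg : L.FG
  h : ((Fin N → R) ⧸ L) →ₗ[R] M

/-- The finitely presented module of a stage. -/
abbrev Stage.Q (s : Stage R M) : Type u := (Fin s.N → R) ⧸ s.L

lemma Stage.exists_next (hM : IsMittagLeffler R M) (s : Stage R M) (m : M) :
    ∃ (t : Stage R M) (g : s.Q →ₗ[R] t.Q), t.h ∘ₗ g = s.h ∧ m ∈ LinearMap.range t.h ∧
      ∀ (Z : Type u) [AddCommGroup Z] [Module R Z],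
        LinearMap.ker (s.h.rTensor Z) = LinearMap.ker (g.rTensor Z) := by
  have := finitePresentation_quotient_pi s.fg
  let c := s.h.coprod (LinearMap.toSpanSingleton R M m)
  obtain ⟨N, L, hL, g, h, hc, hker⟩ := exists_dominating hM c
  have hsh : s.h = c ∘ₗ LinearMap.inl R s.Q R := by simp [c]
  refine ⟨⟨N, L, hL, h⟩, g ∘ₗ LinearMap.inl R s.Q R, ?_, ⟨g (0, 1), ?_⟩, fun Z _ _ => ?_⟩
  · show h ∘ₗ g ∘ₗ _ = _
    rw [hsh, ← LinearMap.comp_assoc, ← hc]
  · show h (g (0, 1)) = m
    rw [← LinearMap.comp_apply, ← hc]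
    simp [c]
  · conv_lhs => rw [hsh]
    rw [LinearMap.rTensor_comp, LinearMap.rTensor_comp, LinearMap.ker_comp, LinearMap.ker_comp, hker]

/-- A dominated exhausting sequence of finitely presented modules, starting at a given stage. -/
theorem exists_sequence (hM : IsMittagLeffler R M) (hc : IsCountablyGenerated R M)
    (s₀ : Stage R M) :
    ∃ (S : ℕ → Stage R M) (g : ∀ k, (S k).Q →ₗ[R] (S (k + 1)).Q), S 0 = s₀ ∧
      (∀ k, (S (k + 1)).h ∘ₗ g k = (S k).h) ∧
      (∀ k, ∀ (Z : Type u) [AddCommGroup Z] [Module R Z],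
        LinearMap.ker ((S k).h.rTensor Z) = LinearMap.ker ((g k).rTensor Z)) ∧
      ∀ x, ∃ k, x ∈ LinearMap.range (S k).h := by
  obtain ⟨G, hG, hGtop⟩ := hc
  obtain ⟨m, hm⟩ : ∃ m : ℕ → M, insert (0 : M) G = Set.range m :=
    (hG.insert 0).exists_eq_range (Set.insert_nonempty _ _)
  choose t g hcomp hmem hker using fun (s : Stage R M) (x : M) => s.exists_next hM x
  let S : ℕ → Stage R M := fun k => Nat.rec s₀ (fun n s => t s (m n)) k
  have hmono : Monotone fun k => LinearMap.range (S k).h :=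
    monotone_nat_of_le_succ fun k => by
      rw [← hcomp (S k) (m k)]
      exact LinearMap.range_comp_le_range _ _
  refine ⟨S, fun k => g (S k) (m k), rfl, fun k => hcomp _ _, fun k => hker _ _, fun x => ?_⟩
  have htop : ⨆ k, LinearMap.range (S k).h = ⊤ := by
    rw [eq_top_iff, ← hGtop, Submodule.span_le]
    intro a ha
    obtain ⟨n, rfl⟩ : a ∈ Set.range m := hm ▸ Set.mem_insert_of_mem _ ha
    exact Submodule.mem_iSup_of_mem (n + 1) (hmem _ _)
  have hx : x ∈ ⨆ k, LinearMap.range (S k).h := htop ▸ Submodule.mem_top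
  exact (Submodule.mem_iSup_of_directed _ hmono.directed_le).1 hx

/-- The retraction towards the second stage of a dominated sequence. -/
lemma exists_retraction {Q : ℕ → Type u} [∀ k, AddCommGroup (Q k)] [∀ k, Module R (Q k)]
    [∀ k, Module.FinitePresentation R (Q k)] (h : ∀ k, Q k →ₗ[R] M)
    (g : ∀ k, Q k →ₗ[R] Q (k + 1)) (hg : ∀ k, h (k + 1) ∘ₗ g k = h k)
    (hker : ∀ k, ∀ (Z : Type u) [AddCommGroup Z] [Module R Z],
        LinearMap.ker ((h k).rTensor Z) = LinearMap.ker ((g k).rTensor Z))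
    (hgen : ∀ x, ∃ k, x ∈ LinearMap.range (h k)) :
    ∃ b : M →ₗ[R] Q 1, b ∘ₗ h 0 = g 0 := by
  have hφ : ∀ k, ∃ φ : Q (k + 2) →ₗ[R] Q (k + 1), g k = φ ∘ₗ g (k + 1) ∘ₗ g k := by
    intro k
    have : Module.FinitePresentation R (Q (k + 2) ⧸ LinearMap.range (g (k + 1) ∘ₗ g k)) :=
      Module.finitePresentation_of_surjective _ (Submodule.mkQ_surjective _) (by
        rw [Submodule.ker_mkQ, LinearMap.range_eq_map]
        exact Module.Finite.fg_top.map _)
    refine exists_factor_of_dominates _ _ fun Z _ _ => ?_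
    rw [← hker k Z]
    have : h (k + 2) ∘ₗ g (k + 1) ∘ₗ g k = h k := by rw [← LinearMap.comp_assoc, hg, hg]
    conv_rhs => rw [← this, LinearMap.rTensor_comp]
    exact LinearMap.ker_le_ker_comp _ _
  choose φ hφ using hφ
  let α : ∀ k, Q (k + 1) →ₗ[R] Q 1 := fun k => Nat.rec LinearMap.id (fun n a => a ∘ₗ φ n) k
  obtain ⟨b, hb⟩ := exists_glue h g hg
    (fun k y hy => by
      have hh : y ⊗ₜ[R] (1 : R) ∈ LinearMap.ker ((h k).rTensor R) := by simp [hy]
      rw [hker k R, LinearMap.mem_ker, LinearMap.rTensor_tmul] at hh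
      simpa using congrArg (TensorProduct.rid R _) hh)
    hgen (fun k => α k ∘ₗ g k) (fun k => by
      show (α k ∘ₗ φ k ∘ₗ g (k + 1)) ∘ₗ g k = _
      simp only [LinearMap.comp_assoc, ← hφ k])
  exact ⟨b, hb 0⟩

/-- A countably generated Mittag-Leffler module is a direct summand of a direct sum of finitely
presented modules. -/
theorem exists_retract_directSum (hM : IsMittagLeffler R M) (hc : IsCountablyGenerated R M) :
    ∃ (S : ℕ → Stage R M) (i : M →ₗ[R] DirectSum ℕ fun n => (S n).Q)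
      (p : (DirectSum ℕ fun n => (S n).Q) →ₗ[R] M), p ∘ₗ i = LinearMap.id := by
  classical
  obtain ⟨S, g, -, hg, hker, hgen⟩ := exists_sequence hM hc ⟨0, ⊥, Submodule.fg_bot, 0⟩
  have hfp : ∀ k, Module.FinitePresentation R (S k).Q := fun k =>
    finitePresentation_quotient_pi (S k).fg
  have hb : ∀ n, ∃ b : M →ₗ[R] (S (n + 1)).Q, b ∘ₗ (S n).h = g n := by
    intro n
    refine exists_retraction (Q := fun k => (S (n + k)).Q) (fun k => (S (n + k)).h)
      (fun k => g (n + k)) (fun k => hg _) (fun k => hker _) fun x => ?_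
    obtain ⟨k, y, hy⟩ := hgen x
    have : Monotone fun j => LinearMap.range (S j).h :=
      monotone_nat_of_le_succ fun j => by rw [← hg j]; exact LinearMap.range_comp_le_range _ _
    exact ⟨k, this (Nat.le_add_left k n) ⟨y, hy⟩⟩
  choose b hb using hb
  let c : ∀ j, M →ₗ[R] (S (j + 1)).Q := fun j =>
    match j with
    | 0 => b 0
    | n + 1 => b (n + 1) - g (n + 1) ∘ₗ b n
  have hck : ∀ k, c (k + 1) ∘ₗ (S k).h = 0 := by
    intro k
    show (b (k + 1) - g (k + 1) ∘ₗ b k) ∘ₗ (S k).h = 0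
    rw [LinearMap.sub_comp, LinearMap.comp_assoc, hb]
    conv_lhs => arg 1; rw [← hg k, ← LinearMap.comp_assoc, hb]
    exact sub_self _
  let σ : ∀ k, (S k).Q →ₗ[R] DirectSum ℕ fun n => (S n).Q := fun k =>
    ∑ j ∈ Finset.range (k + 1), DirectSum.lof R ℕ (fun n => (S n).Q) (j + 1) ∘ₗ c j ∘ₗ (S k).h
  obtain ⟨i, hi⟩ := exists_glue (Z := DirectSum ℕ fun n => (S n).Q) (fun k => (S k).h) g hg
    (fun k y hy => by
      have hh : y ⊗ₜ[R] (1 : R) ∈ LinearMap.ker ((S k).h.rTensor R) := by simp [hy]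
      rw [hker k R, LinearMap.mem_ker, LinearMap.rTensor_tmul] at hh
      simpa using congrArg (TensorProduct.rid R _) hh)
    hgen σ (fun k => by
      show (∑ j ∈ Finset.range (k + 1 + 1), _) ∘ₗ g k = _
      rw [Finset.sum_range_succ, LinearMap.add_comp, LinearMap.comp_assoc, LinearMap.comp_assoc,
        hg k, hck k, LinearMap.comp_zero, add_zero]
      refine LinearMap.ext fun x => ?_
      simp only [σ, LinearMap.comp_apply, LinearMap.sum_apply, ← congr($(hg k) x)])
  refine ⟨S, i, DirectSum.toModule R ℕ M fun n => (S n).h, LinearMap.ext fun x => ?_⟩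
  have hsum : ∀ k y, ∑ j ∈ Finset.range (k + 1), (S (j + 1)).h (c j y) =
      (S (k + 1)).h (b k y) := by
    intro k y
    induction k with
    | zero => simp [c]
    | succ k ih =>
      rw [Finset.sum_range_succ, ih]
      simp only [c, LinearMap.sub_apply, LinearMap.comp_apply, map_sub]
      rw [show (S (k + 1 + 1)).h (g (k + 1) (b k y)) = (S (k + 1)).h (b k y) from
        congr($(hg (k + 1)) (b k y))]
      abel
  obtain ⟨k, y, rfl⟩ := hgen x
  rw [LinearMap.comp_apply, show i ((S k).h y) = σ k y from congr($(hi k) y)]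
  simp only [σ, LinearMap.sum_apply, LinearMap.comp_apply, map_sum, DirectSum.toModule_lof,
    LinearMap.id_coe, id_eq, hsum]
  rw [show b k ((S k).h y) = g k y from congr($(hb k) y)]
  exact congr($(hg k) y)

/-- A countably generated flat Mittag-Leffler module is projective. -/
theorem projective_of_flat_ml [Module.Flat R M] (hM : IsMittagLeffler R M)
    (hc : IsCountablyGenerated R M) : Module.Projective R M := by
  classical
  obtain ⟨S, i, p, hpi⟩ := exists_retract_directSum hM hc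
  have hfac : ∀ n, ∃ (k : ℕ) (a : (S n).Q →ₗ[R] (Fin k →₀ R)) (y : (Fin k →₀ R) →ₗ[R] M),
      p ∘ₗ DirectSum.lof R ℕ (fun n => (S n).Q) n = y ∘ₗ a := fun n => by
    have := finitePresentation_quotient_pi (S n).fg
    exact Module.Flat.exists_factorization_of_finitePresentation _
  choose k a y hay using hfac
  refine Module.Projective.of_split
    (DirectSum.toModule R ℕ _ (fun n => DirectSum.lof R ℕ (fun n => Fin (k n) →₀ R) n ∘ₗ a n) ∘ₗ i)
    (DirectSum.toModule R ℕ _ y) ?_
  rw [← LinearMap.comp_assoc, ← hpi]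
  congr 1
  refine DirectSum.linearMap_ext _ fun n => LinearMap.ext fun x => ?_
  simpa using congr($(hay n) x).symm

/-- S6361: endomorphisms of a countably generated Mittag-Leffler module fixing a map from a finite
module can be factored through a finitely presented module. -/
theorem exists_endo_factor (hM : IsMittagLeffler R M) (hc : IsCountablyGenerated R M)
    {P : Type u} [AddCommGroup P] [Module R P] [Module.Finite R P] (f : P →ₗ[R] M) :
    ∃ (Q : Type u) (_ : AddCommGroup Q) (_ : Module R Q) (_ : Module.FinitePresentation R Q)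
      (b : M →ₗ[R] Q) (c : Q →ₗ[R] M), (c ∘ₗ b) ∘ₗ f = f := by
  obtain ⟨n, q, hq⟩ := Module.Finite.exists_fin' R P
  let s₀ : Stage R M := ⟨n, ⊥, Submodule.fg_bot, (⊥ : Submodule R (Fin n → R)).liftQ (f ∘ₗ q) bot_le⟩
  obtain ⟨S, g, h0, hg, hker, hgen⟩ := exists_sequence hM hc s₀
  have hfp : ∀ k, Module.FinitePresentation R (S k).Q := fun k =>
    finitePresentation_quotient_pi (S k).fg
  obtain ⟨b, hb⟩ := exists_retraction (Q := fun k => (S k).Q) (fun k => (S k).h) g hg hker hgen
  refine ⟨_, _, _, hfp 1, b, (S 1).h, ?_⟩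
  have h1 : ((S 1).h ∘ₗ b) ∘ₗ (S 0).h = (S 0).h := by rw [LinearMap.comp_assoc, hb, hg]
  rw [h0] at h1
  refine LinearMap.ext fun x => ?_
  obtain ⟨z, rfl⟩ := hq x
  have hz := congr($h1 (Submodule.Quotient.mk z))
  simp only [s₀, LinearMap.comp_apply, Submodule.liftQ_apply] at hz
  exact hz

section Subcolimit

variable {ι : Type u} [Preorder ι] [IsDirected ι (· ≤ ·)] [Nonempty ι] [DecidableEq ι]
  (G : ι → Type u) [∀ i, AddCommGroup (G i)] [∀ i, Module R (G i)]
  [∀ i, Module.FinitePresentation R (G i)] (f : ∀ i j, i ≤ j → G i →ₗ[R] G j)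
  [DirectedSystem G fun i j h => f i j h]

theorem exists_countable_subcolimit (hML : IsMittagLeffler R (Module.DirectLimit G f))
    (hc : IsCountablyGenerated R (Module.DirectLimit G f)) :
    ∃ I' : Set ι, I'.Countable ∧ DirectedOn (· ≤ ·) I' ∧
      Function.Bijective (Module.DirectLimit.lift R I' (fun i : I' => G i.1)
        (fun (i j : I') (h : i ≤ j) => f i.1 j.1 h)
        (fun i : I' => Module.DirectLimit.of R ι G f i.1)
        (fun (i j : I') (h : i ≤ j) (x : G i.1) => Module.DirectLimit.of_f)) := by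
  obtain ⟨T, hT, hTtop⟩ := hc
  obtain ⟨m, hm⟩ := (hT.insert 0).exists_eq_range (Set.insert_nonempty _ _)
  choose j hij hj using exists_dominates_transition G f hML
  have hnext : ∀ (i : ι) (x : Module.DirectLimit G f),
      ∃ k, j i ≤ k ∧ x ∈ LinearMap.range (Module.DirectLimit.of R ι G f k) := by
    intro i x
    obtain ⟨k, y, rfl⟩ := Module.DirectLimit.exists_of x
    obtain ⟨l, h1, h2⟩ := exists_ge_ge (j i) k
    exact ⟨l, h1, f k l h2 y, Module.DirectLimit.of_f⟩
  choose nx hnx hnx' using hnext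
  let a : ℕ → ι := fun n => Nat.rec (Classical.arbitrary ι) (fun k i => nx i (m k)) n
  have hmono : Monotone a := monotone_nat_of_le_succ fun n => (hij _).trans (hnx (a n) (m n))
  refine ⟨Set.range a, Set.countable_range a, ?_, ?_⟩
  · rintro _ ⟨p, rfl⟩ _ ⟨q, rfl⟩
    exact ⟨a (max p q), ⟨_, rfl⟩, hmono (le_max_left _ _), hmono (le_max_right _ _)⟩
  have : IsDirected (Set.range a) (· ≤ ·) := ⟨fun x y => by
    obtain ⟨_, ⟨p, rfl⟩⟩ := x
    obtain ⟨_, ⟨q, rfl⟩⟩ := y
    exact ⟨⟨a (max p q), _, rfl⟩, hmono (le_max_left p q), hmono (le_max_right p q)⟩⟩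
  have : Nonempty (Set.range a) := ⟨⟨a 0, 0, rfl⟩⟩
  constructor
  · rw [← LinearMap.ker_eq_bot, LinearMap.ker_eq_bot']
    intro z hz
    obtain ⟨⟨_, n, rfl⟩, y, rfl⟩ := Module.DirectLimit.exists_of z
    rw [Module.DirectLimit.lift_of] at hz
    have h1 : f (a n) (j (a n)) (hij _) y = 0 := by
      have h0 := hj (a n) R (y ⊗ₜ 1) (by simp [hz])
      simpa using congrArg (TensorProduct.rid R _) h0
    have hle : (⟨a n, n, rfl⟩ : Set.range a) ≤ ⟨a (n + 1), n + 1, rfl⟩ := hmono (Nat.le_succ n)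
    rw [← Module.DirectLimit.of_f (hij := hle)]
    have h2 : f (a n) (a (n + 1)) hle y = 0 := by
      rw [← DirectedSystem.map_map (f := fun i j h => f i j h) (hij (a n)) (hnx (a n) (m n)) y, h1,
        map_zero]
    rw [show f (a n) (a (n + 1)) hle y = 0 from h2, map_zero]
  · rw [← LinearMap.range_eq_top, eq_top_iff, ← hTtop, Submodule.span_le]
    intro x hx
    obtain ⟨n, rfl⟩ : x ∈ Set.range m := hm ▸ Set.mem_insert_of_mem _ hx
    obtain ⟨y, hy⟩ := hnx' (a n) (m n)
    exact ⟨Module.DirectLimit.of R (Set.range a) (fun i : Set.range a => G i.1) _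
      ⟨a (n + 1), n + 1, rfl⟩ y, by rw [Module.DirectLimit.lift_of]; exact hy⟩

end Subcolimit

end Groth.Agent.CAlgML
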