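import Groth.Agent.CAlgML.Kaplansky
import Mathlib.LinearAlgebra.Quotient.Basic
import Mathlib.LinearAlgebra.DirectSum.Basis

/-! Projective modules: structure, faithfully flat descent, freeness over local rings. -/

namespace Groth.Agent.CAlgML

open TensorProduct
open CAlg (IsCountablyGenerated IsMittagLeffler)
open scoped Classical

universe u

variable {R : Type u} [CommRing R] {M : Type u} [AddCommGroup M] [Module R M]

lemma ml_self : IsMittagLeffler R R := ml_of_finitePresentation R

lemma ml_of_projective [Module.Projective R M] : IsMittagLeffler R M := by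
  obtain ⟨F, _, _, _, π, hπ⟩ := exists_free_cover (R := R) M
  obtain ⟨s, hs⟩ := Module.projective_lifting_property π LinearMap.id hπ
  refine ml_of_ui s (UI.of_leftInverse π hs) ?_
  refine ml_of_linearEquiv ((Module.Free.chooseBasis R F).repr ≪≫ₗ finsuppLEquivDirectSum R R _) ?_
  exact (ml_directSum _).2 fun _ => ml_self

lemma isInternal_map {N : Type u} [AddCommGroup N] [Module R N] (e : M ≃ₗ[R] N) {κ : Type u}
    {L : κ → Submodule R M} (h : DirectSum.IsInternal L) :
    DirectSum.IsInternal fun k => (L k).map e.toLinearMap := by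
  rw [DirectSum.isInternal_submodule_iff_iSupIndep_and_iSup_eq_top] at h ⊢
  refine ⟨h.1.map_orderIso (Submodule.orderIsoMapComap e), ?_⟩
  rw [← Submodule.map_iSup, h.2, Submodule.map_top, LinearMap.range_eq_top.2 e.surjective]

lemma exists_cg_decomposition [Module.Projective R M] :
    ∃ (κ : Type u) (L : κ → Submodule R M),
      DirectSum.IsInternal L ∧ ∀ k, IsCountablyGenerated R (L k) := by
  obtain ⟨F, _, _, _, π, hπ⟩ := exists_free_cover (R := R) M
  obtain ⟨s, hs⟩ := Module.projective_lifting_property π LinearMap.id hπ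
  have hπs : ∀ x, π (s x) = x := fun x => congr($hs x)
  let b := Module.Free.chooseBasis R F
  obtain ⟨𝓛, h1, h2, h3⟩ := exists_decomposition_range (fun i => Submodule.span R {b i})
    b.linearIndependent.iSupIndep_span_singleton
    (by rw [← Submodule.span_range_eq_iSup, b.span_eq])
    (fun i => ⟨{b i}, Set.countable_singleton _, rfl⟩) (s ∘ₗ π)
    (LinearMap.ext fun x => by simp [hπs])
  obtain ⟨κ, L, hL, hLc⟩ := exists_isInternal_of_sSupIndep _ h1 h2 h3
  have hsπ : LinearMap.range (s ∘ₗ π) = LinearMap.range s :=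
    LinearMap.range_comp_of_range_eq_top _ (LinearMap.range_eq_top.2 hπ)
  let e : LinearMap.range (s ∘ₗ π) ≃ₗ[R] M := LinearEquiv.ofEq _ _ hsπ ≪≫ₗ
    (LinearEquiv.ofInjective s (Function.LeftInverse.injective hπs)).symm
  refine ⟨κ, fun k => (L k).map e.toLinearMap, isInternal_map e hL, fun k => ?_⟩
  exact isCountablyGenerated_of_surjective (e.submoduleMap (L k)).toLinearMap
    (LinearEquiv.surjective _) (hLc k)

lemma exists_linearEquiv_directSum {κ : Type u} {L : κ → Submodule R M}
    (h : DirectSum.IsInternal L) : Nonempty ((DirectSum κ fun k => L k) ≃ₗ[R] M) := by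
  obtain ⟨hi, ht⟩ := (DirectSum.isInternal_submodule_iff_iSupIndep_and_iSup_eq_top L).1 h
  exact ⟨LinearEquiv.ofBijective (DirectSum.coeLinearMap L)
    ⟨hi.dfinsupp_lsum_injective, (LinearMap.range_eq_top (f := DFinsupp.lsum _ _)).1
      ((Submodule.iSup_eq_range_dfinsupp_lsum _).symm.trans ht)⟩⟩

lemma projective_of_isInternal {κ : Type u} {L : κ → Submodule R M} (h : DirectSum.IsInternal L)
    (hp : ∀ k, Module.Projective R (L k)) : Module.Projective R M := by
  obtain ⟨e⟩ := exists_linearEquiv_directSum h
  exact Module.Projective.of_equiv e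

theorem projective_iff :
    Module.Projective R M ↔ (Module.Flat R M ∧ IsMittagLeffler R M ∧
      ∃ (ι : Type u) (N : ι → Submodule R M),
        DirectSum.IsInternal N ∧ ∀ i, IsCountablyGenerated R (N i)) := by
  refine ⟨fun _ => ⟨inferInstance, ml_of_projective, exists_cg_decomposition⟩, ?_⟩
  rintro ⟨hflat, hml, ι, N, hN, hc⟩
  obtain ⟨e⟩ := exists_linearEquiv_directSum hN
  refine projective_of_isInternal hN fun i => ?_
  have hi : Module.Flat R (N i) := by
    have := Module.Flat.of_linearEquiv e
    exact Module.Flat.directSum_iff.1 this i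
  exact projective_of_flat_ml ((ml_directSum _).1 (ml_of_linearEquiv e hml) i) (hc i)

section Descent

variable {S : Type u} [CommRing S] [Algebra R S]

lemma flat_descent [Module.FaithfullyFlat R S] [Module.Flat S (S ⊗[R] M)] : Module.Flat R M := by
  have : Module.Flat R (S ⊗[R] M) := Module.Flat.trans R S _
  rw [Module.Flat.iff_rTensor_preserves_injective_linearMap]
  intro A B _ _ _ _ u hu
  apply (Module.FaithfullyFlat.lTensor_injective_iff_injective R S _).1
  have hsq : ∀ x, TensorProduct.leftComm R S B M ((u.rTensor M).lTensor S x) =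
      u.rTensor (S ⊗[R] M) (TensorProduct.leftComm R S A M x) := by
    intro x
    induction x with
    | zero => simp
    | tmul a w =>
      induction w with
      | zero => simp
      | tmul p q => simp
      | add p q hp hq => simp only [map_add, tmul_add, hp, hq]
    | add a b ha hb => simp only [map_add, ha, hb]
  intro x y hxy
  apply (TensorProduct.leftComm R S A M).injective
  apply Module.Flat.rTensor_preserves_injective_linearMap (M := S ⊗[R] M) u hu
  rw [← hsq, ← hsq, hxy]

lemma exists_tensor_closure {I : Type u} (Q : I → Submodule S (S ⊗[R] M)) (htop : iSup Q = ⊤)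
    (hQ : ∀ i, CG (Q i)) (T₀ : Set M) (hT₀ : T₀.Countable) (K₀ : Set I) (hK₀ : K₀.Countable) :
    ∃ (T : Set M) (K : Set I), T.Countable ∧ K.Countable ∧ T₀ ⊆ T ∧ K₀ ⊆ K ∧
      (Submodule.span R T).baseChange S = ⨆ i ∈ K, Q i := by
  choose s hs using fun m : M => exists_finset_mem_biSup Q
    (x := (1 : S) ⊗ₜ[R] m) (htop ▸ Submodule.mem_top)
  choose G hG hG' using hQ
  have hfin : ∀ x : S ⊗[R] M, ∃ t : Set M, t.Countable ∧
      x ∈ (Submodule.span R t).baseChange S := by
    intro x
    obtain ⟨k, a, m, rfl⟩ := TensorProduct.exists_sum_tmul_eq x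
    exact ⟨Set.range m, Set.countable_range m, Submodule.sum_mem _ fun i _ =>
      Submodule.tmul_mem_baseChange_of_mem _ (Submodule.subset_span ⟨i, rfl⟩)⟩
  choose ms hms hms' using hfin
  obtain ⟨Z, hZ, h0, hcl⟩ := exists_countable_closure
    (Sum.elim (fun m => (Sum.inr '' (↑(s m) : Set I) : Set (M ⊕ I)))
      (fun i => ⋃ x ∈ G i, Sum.inl '' ms x))
    (by
      rintro (m | i)
      · exact (s m).countable_toSet.image _
      · exact (hG i).biUnion fun x _ => (hms x).image _)
    (Sum.inl '' T₀ ∪ Sum.inr '' K₀) ((hT₀.image _).union (hK₀.image _))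
  refine ⟨Sum.inl ⁻¹' Z, Sum.inr ⁻¹' Z, hZ.preimage Sum.inl_injective, hZ.preimage Sum.inr_injective,
    fun m hm => h0 (Or.inl ⟨m, hm, rfl⟩), fun i hi => h0 (Or.inr ⟨i, hi, rfl⟩), le_antisymm ?_ ?_⟩
  · rw [Submodule.baseChange_span, Submodule.span_le]
    rintro _ ⟨m, hm, rfl⟩
    exact biSup_mono (f := Q) (fun i hi => hcl _ hm ⟨i, hi, rfl⟩) (hs m)
  · refine iSup₂_le fun i hi => ?_
    rw [← hG' i, Submodule.span_le]
    intro x hx
    have hle : ms x ⊆ Sum.inl ⁻¹' Z := fun m hm => hcl (Sum.inr i) hi
      (Set.mem_biUnion (s := G i) (t := fun x => (Sum.inl '' ms x : Set (M ⊕ I))) hx ⟨m, hm, rfl⟩)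
    exact Submodule.baseChange_mono (A := S) (Submodule.span_mono hle) (hms' x)

lemma baseChange_sup (A B : Submodule R M) :
    (A ⊔ B).baseChange S = A.baseChange S ⊔ B.baseChange S := by
  simp only [Submodule.baseChange_eq_span, Submodule.map_sup, ← Submodule.span_union]
  refine le_antisymm (Submodule.span_le.2 ?_) (Submodule.span_mono ?_)
  · intro x hx
    obtain ⟨a, ha, b, hb, rfl⟩ := Submodule.mem_sup.1 hx
    exact add_mem (Submodule.subset_span (Or.inl ha)) (Submodule.subset_span (Or.inr hb))
  · rintro x (hx | hx)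
    exacts [Submodule.mem_sup_left hx, Submodule.mem_sup_right hx]

/-- `S ⊗ (M / B)` is the quotient by the base change of `B`. -/
noncomputable def baseChangeQuotientEquiv (B : Submodule R M) :
    ((S ⊗[R] M) ⧸ B.baseChange S) ≃ₗ[S] S ⊗[R] (M ⧸ B) :=
  Submodule.quotEquivOfEq _ _ (by
    refine SetLike.ext fun x => ?_
    exact ((lTensor_exact S (LinearMap.exact_subtype_mkQ B) B.mkQ_surjective x).symm.trans
      Iff.rfl)) ≪≫ₗ (B.mkQ.baseChange S).quotKerEquivOfSurjective
        (LinearMap.lTensor_surjective S B.mkQ_surjective)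

theorem projective_descent [Module.FaithfullyFlat R S] [Module.Projective S (S ⊗[R] M)] :
    Module.Projective R M := by
  obtain ⟨I, Q, hQ, hQc⟩ := exists_cg_decomposition (R := S) (M := S ⊗[R] M)
  obtain ⟨hind, htop⟩ := (DirectSum.isInternal_submodule_iff_iSupIndep_and_iSup_eq_top Q).1 hQ
  have hquot : ∀ (J : Set I) (B : Submodule R M), B.baseChange S = ⨆ i ∈ J, Q i →
      Module.Projective S (S ⊗[R] (M ⧸ B)) ∧ Module.Flat R (M ⧸ B) := by
    intro J B hB
    have hcompl := isCompl_biSup_compl hind htop J
    have : Module.Projective S (⨆ i ∈ Jᶜ, Q i : Submodule S (S ⊗[R] M)) :=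
      Module.Projective.of_split (M := S ⊗[R] M) (Submodule.subtype _)
        (Submodule.projectionOnto _ _ hcompl.symm)
        (LinearMap.ext fun x => Submodule.projectionOnto_apply_left hcompl.symm x)
    have hproj : Module.Projective S (S ⊗[R] (M ⧸ B)) := Module.Projective.of_equiv
      ((Submodule.quotientEquivOfIsCompl _ _ hcompl).symm ≪≫ₗ Submodule.quotEquivOfEq _ _ hB.symm
        ≪≫ₗ baseChangeQuotientEquiv B)
    exact ⟨hproj, flat_descent (S := S)⟩
  suffices hmain : ∃ 𝓛 : Set (Submodule R M), sSupIndep 𝓛 ∧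
      (∀ C ∈ 𝓛, Module.Projective R C) ∧ (sSup 𝓛).baseChange S = ⨆ i ∈ (Set.univ : Set I), Q i by
    obtain ⟨𝓛, h1, h2, h3⟩ := hmain
    have hA : (sSup 𝓛).baseChange S = ⊤ := by rw [h3]; simpa using htop
    have hsub : Subsingleton (S ⊗[R] (M ⧸ sSup 𝓛)) := by
      have : Subsingleton ((S ⊗[R] M) ⧸ (sSup 𝓛).baseChange S) :=
        Submodule.Quotient.subsingleton_iff.2 hA
      exact (baseChangeQuotientEquiv _).symm.toEquiv.subsingleton
    have htop' : sSup 𝓛 = ⊤ := Submodule.Quotient.subsingleton_iff.1
        (Module.FaithfullyFlat.lTensor_reflects_triviality R S _)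
    exact projective_of_isInternal (L := fun L : 𝓛 => L.1)
      (isInternal_of_indep_top ((sSupIndep_iff 𝓛).1 h1) (by rwa [← sSup_eq_iSup']))
      fun L => h2 _ L.2
  refine exists_internal_of_extend
    (fun J A => A.baseChange S = ⨆ i ∈ J, Q i) (fun C => Module.Projective R C)
    (by simp)
    (fun c _ _ hΦ => by
      simp only [Submodule.baseChange_eq_span, Submodule.map_iSup, iSup_iUnion]
      refine le_antisymm (Submodule.span_le.2 fun x hx => ?_) (iSup₂_le fun z hz => ?_)
      · refine (?_ : (⨆ z ∈ c, Submodule.map (TensorProduct.mk R S M 1) z.2) ≤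
          (⨆ z ∈ c, ⨆ i ∈ z.1, Q i).restrictScalars R) hx
        refine iSup₂_le fun z hz y hy => ?_
        refine le_iSup₂ (f := fun z _ => ⨆ i ∈ z.1, Q i) z hz ?_
        rw [← hΦ z hz, Submodule.baseChange_eq_span]
        exact Submodule.subset_span hy
      · rw [← hΦ z hz, Submodule.baseChange_eq_span]
        exact Submodule.span_mono fun x hx =>
          le_iSup₂ (f := fun z _ => Submodule.map (TensorProduct.mk R S M 1) z.2) z hz hx)
    ?_
  intro J A hA hne
  obtain ⟨i, hi⟩ := (Set.ne_univ_iff_exists_notMem J).1 hne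
  obtain ⟨T, K, hT, hK, -, hiK, hTK⟩ := exists_tensor_closure Q htop
    (fun i => (cg_iff _).2 (hQc i)) ∅ Set.countable_empty {i} (Set.countable_singleton i)
  let B := A ⊔ Submodule.span R T
  have hB : B.baseChange S = ⨆ j ∈ J ∪ K, Q j := by rw [baseChange_sup, hA, hTK, iSup_union]
  obtain ⟨hpA, hfA⟩ := hquot J A hA
  obtain ⟨-, hfB⟩ := hquot _ B hB
  let Bb := B.map A.mkQ
  let v : (M ⧸ A) →ₗ[R] M ⧸ B := A.mapQ B LinearMap.id le_sup_left
  have hv : Function.Surjective v := by
    intro q
    obtain ⟨m, rfl⟩ := B.mkQ_surjective q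
    exact ⟨A.mkQ m, rfl⟩
  have hex : Function.Exact Bb.subtype v := by
    rw [LinearMap.exact_iff, Submodule.range_subtype]
    refine le_antisymm (fun q hq => ?_) ?_
    · obtain ⟨m, rfl⟩ := A.mkQ_surjective q
      exact Submodule.mem_map_of_mem ((Submodule.Quotient.mk_eq_zero B).1 hq)
    · rintro _ ⟨m, hm, rfl⟩
      exact (Submodule.Quotient.mk_eq_zero B).2 hm
  have hui := ui_of_flat_right Bb.subtype v Bb.injective_subtype hex hv
  have := (flat_of_ui _ _ hex hv hui).1
  have hBb : Bb = Submodule.map A.mkQ (Submodule.span R T) := by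
    simp [Bb, B, Submodule.map_sup]
  have hcg : IsCountablyGenerated R Bb := (cg_iff _).1 (hBb ▸ CG.map _ ⟨T, hT, rfl⟩)
  have : Module.Projective R Bb :=
    projective_of_flat_ml (ml_of_ui _ hui (ml_descent (ml_of_projective (R := S)))) hcg
  let f : Submodule.span R T →ₗ[R] Bb := LinearMap.codRestrict Bb
    (A.mkQ ∘ₗ (Submodule.span R T).subtype)
    fun t => Submodule.mem_map_of_mem (Submodule.mem_sup_right t.2)
  have hf : Function.Surjective f := by
    rintro ⟨q, hq⟩
    rw [hBb] at hq
    obtain ⟨t, ht, rfl⟩ := hq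
    exact ⟨⟨t, ht⟩, rfl⟩
  obtain ⟨σ, hσ⟩ := Module.projective_lifting_property f LinearMap.id hf
  let σM := (Submodule.span R T).subtype ∘ₗ σ
  have hσM : ∀ y, A.mkQ (σM y) = (y : M ⧸ A) := fun y =>
    congr(($hσ y : M ⧸ A))
  have hinj : Function.Injective σM := fun a b h => by
    apply Subtype.ext
    rw [← hσM, ← hσM, h]
  refine ⟨J ∪ K, ⟨Set.subset_union_left, fun h => hi (h (Or.inr (hiK rfl)))⟩,
    LinearMap.range σM, Module.Projective.of_equiv (LinearEquiv.ofInjective σM hinj), ?_, ?_⟩
  · rw [Submodule.disjoint_def]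
    rintro _ hy ⟨y, rfl⟩
    have : y = 0 := Subtype.ext (by
      rw [← hσM]; exact (Submodule.Quotient.mk_eq_zero A).2 hy)
    simp [this]
  · rw [← hB]
    congr 1
    refine le_antisymm (sup_le le_sup_left ?_) (sup_le le_sup_left fun t ht => ?_)
    · rintro _ ⟨y, rfl⟩
      exact Submodule.mem_sup_right (σ y).2
    · have : t - σM (f ⟨t, ht⟩) ∈ A := by
        rw [← Submodule.Quotient.mk_eq_zero, ← Submodule.mkQ_apply, map_sub, hσM]
        exact sub_self _
      rw [show t = (t - σM (f ⟨t, ht⟩)) + σM (f ⟨t, ht⟩) from (sub_add_cancel _ _).symm]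
      exact add_mem (Submodule.mem_sup_left this) (Submodule.mem_sup_right ⟨_, rfl⟩)

lemma isCountablyGenerated_descent [Module.FaithfullyFlat R S]
    (h : IsCountablyGenerated S (S ⊗[R] M)) : IsCountablyGenerated R M := by
  obtain ⟨G, hG, htop⟩ := h
  choose k a m hm using fun x : S ⊗[R] M => TensorProduct.exists_sum_tmul_eq x
  refine ⟨⋃ x ∈ G, Set.range (m x), hG.biUnion fun x _ => Set.countable_range _, ?_⟩
  set B := Submodule.span R (⋃ x ∈ G, Set.range (m x))
  have hA : B.baseChange S = ⊤ := by
    rw [eq_top_iff, ← htop, Submodule.span_le]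
    intro x hx
    rw [hm x]
    exact Submodule.sum_mem _ fun i _ => Submodule.tmul_mem_baseChange_of_mem _
      (Submodule.subset_span (Set.mem_biUnion hx ⟨i, rfl⟩))
  have : Subsingleton (S ⊗[R] (M ⧸ B)) := by
    have : Subsingleton ((S ⊗[R] M) ⧸ B.baseChange S) :=
      Submodule.Quotient.subsingleton_iff.2 hA
    exact (baseChangeQuotientEquiv _).symm.toEquiv.subsingleton
  exact Submodule.Quotient.subsingleton_iff.1
    (Module.FaithfullyFlat.lTensor_reflects_triviality R S _)

end Descent

section Local

variable [IsLocalRing R]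

/-- Over a local ring every element of a projective module lies in a finite free summand. -/
lemma exists_free_summand [Module.Projective R M] (x : M) :
    ∃ (d : ℕ) (u : (Fin d → R) →ₗ[R] M) (v : M →ₗ[R] (Fin d → R)),
      v ∘ₗ u = LinearMap.id ∧ x ∈ LinearMap.range u := by
  obtain ⟨F, _, _, _, π, hπ⟩ := exists_free_cover (R := R) M
  obtain ⟨s, hs⟩ := Module.projective_lifting_property π LinearMap.id hπ
  have hπs : ∀ x, π (s x) = x := fun x => congr($hs x)
  let P := {d : ℕ | ∃ (ι : Type u) (b : Module.Basis ι R F), (b.repr (s x)).support.card = d}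
  have hne : P.Nonempty := ⟨_, _, Module.Free.chooseBasis R F, rfl⟩
  obtain ⟨ι, b, hb⟩ := Nat.sInf_mem hne
  have hmin : ∀ (ι' : Type u) (b' : Module.Basis ι' R F),
      (b.repr (s x)).support.card ≤ (b'.repr (s x)).support.card := fun ι' b' =>
    hb ▸ Nat.sInf_le ⟨ι', b', rfl⟩
  set a := b.repr (s x) with ha
  have hunit : ∀ (j : ι) (c : ι →₀ R), j ∈ a.support → (c.support ⊆ a.support) →
      (∑ i ∈ a.support, c i * a i) = 0 → ¬ IsUnit (c j) := by
    intro j c hj hc h0 hu
    obtain ⟨t, ht⟩ := hu
    let η : ι → F := fun i => if i = j then b j else b i - (↑t⁻¹ * c i) • b j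
    let L : F →ₗ[R] F := b.constr R η
    let η' : ι → F := fun i => if i = j then b j else b i + (↑t⁻¹ * c i) • b j
    let L' : F →ₗ[R] F := b.constr R η'
    have h1 : L ∘ₗ L' = LinearMap.id := b.ext fun i => by
      by_cases h : i = j <;> simp [L, L', η, η', h]
    have h2 : L' ∘ₗ L = LinearMap.id := b.ext fun i => by
      by_cases h : i = j <;> simp [L, L', η, η', h]
    let e : F ≃ₗ[R] F := LinearEquiv.ofLinearMap L L' h1 h2
    refine absurd (hmin ι (b.map e)) (not_le.2 ?_)
    have hrepr : (b.map e).repr (s x) = b.repr (L' (s x)) := rfl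
    have hL' : L' (s x) = ∑ i ∈ a.support.erase j, a i • b i := by
      have hsx : s x = ∑ i ∈ a.support, a i • b i := by
        conv_lhs => rw [← b.linearCombination_repr (s x)]
        rfl
      rw [hsx, map_sum, ← Finset.add_sum_erase _ _ hj]
      simp only [map_smul, L', Module.Basis.constr_basis, η', if_pos rfl]
      rw [← Finset.add_sum_erase _ _ hj, ← ht] at h0
      have hsum : ∑ i ∈ a.support.erase j, (a i * (↑t⁻¹ * c i)) = -(a j) := by
        have : ∑ i ∈ a.support.erase j, (a i * (↑t⁻¹ * c i)) =
            ↑t⁻¹ * ∑ i ∈ a.support.erase j, c i * a i := by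
          rw [Finset.mul_sum]
          exact Finset.sum_congr rfl fun i _ => by ring
        rw [this, eq_neg_of_add_eq_zero_right h0, mul_neg, ← mul_assoc, Units.inv_mul, one_mul]
      have : ∀ i ∈ a.support.erase j, a i • (if i = j then b j else b i + (↑t⁻¹ * c i) • b j) =
          a i • b i + (a i * (↑t⁻¹ * c i)) • b j := fun i hi => by
        rw [if_neg (Finset.ne_of_mem_erase hi), smul_add, smul_smul]
      rw [Finset.sum_congr rfl this, Finset.sum_add_distrib, ← Finset.sum_smul, hsum, neg_smul,
        if_pos trivial, add_left_comm, add_neg_cancel, add_zero]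
    calc ((b.map e).repr (s x)).support.card ≤ (a.support.erase j).card := by
          refine Finset.card_le_card ?_
          rw [hrepr, hL', map_sum]
          refine Finsupp.support_finset_sum.trans (Finset.biUnion_subset.2 fun i hi => ?_)
          simp only [map_smul, Module.Basis.repr_self, Finsupp.smul_single, smul_eq_mul, mul_one]
          exact Finsupp.support_single_subset.trans (Finset.singleton_subset_iff.2 hi)
      _ < a.support.card := Finset.card_erase_lt_of_mem hj
  let C : a.support → a.support → R := fun i j => b.repr (s (π (b i.1))) j.1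
  let A : Matrix a.support a.support R := Matrix.of C
  have hcol : ∀ j : a.support, a j.1 = ∑ i : a.support, a i.1 * C i j := by
    intro j
    have hsx : s x = ∑ i : a.support, a i.1 • b i.1 := by
      conv_lhs => rw [← b.linearCombination_repr (s x)]
      exact (Finset.sum_coe_sort a.support fun i => a i • b i).symm
    have : s (π (s x)) = s x := by rw [hπs]
    have h2 : a j.1 = b.repr (s (π (s x))) j.1 := by rw [this]
    rw [h2, hsx]
    simp [map_sum, Finsupp.finset_sum_apply, C]
  have hA : IsUnit A.det := by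
    have hmap : A.map (IsLocalRing.residue R) = 1 := by
      ext i j
      have key : ¬ IsUnit ((if i = j then (1 : R) else 0) - C i j) := by
        let c : ι →₀ R := Finsupp.onFinset a.support
          (fun k => if hk : k ∈ a.support then (if (⟨k, hk⟩ : a.support) = j then (1 : R) else 0)
            - C ⟨k, hk⟩ j else 0) (fun k hk => by by_contra h; simp [h] at hk)
        have h0 : ∑ k ∈ a.support, c k * a k = 0 := by
          rw [← Finset.sum_coe_sort]
          simp only [c, Finsupp.onFinset_apply, dif_pos (Subtype.prop _), Subtype.coe_eta,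
            sub_mul, Finset.sum_sub_distrib, ite_mul, one_mul, zero_mul, Finset.sum_ite_eq',
            Finset.mem_univ, if_true]
          rw [sub_eq_zero, hcol j]
          exact Finset.sum_congr rfl fun k _ => mul_comm _ _
        have hci : c i.1 = (if i = j then (1 : R) else 0) - C i j := by
          simp only [c, Finsupp.onFinset_apply, dif_pos i.2, Subtype.coe_eta]
        rw [← hci]
        exact hunit i.1 c i.2 Finsupp.support_onFinset_subset h0
      rw [← mem_nonunits_iff, ← IsLocalRing.mem_maximalIdeal, ← IsLocalRing.residue_eq_zero_iff,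
        map_sub, sub_eq_zero] at key
      rw [Matrix.map_apply, show A i j = C i j from rfl, ← key, Matrix.one_apply]
      split_ifs <;> simp
    refine IsLocalRing.notMem_maximalIdeal.1 fun h => ?_
    rw [← IsLocalRing.residue_eq_zero_iff, RingHom.map_det, RingHom.mapMatrix_apply, hmap,
      Matrix.det_one] at h
    exact one_ne_zero h
  let d := Fintype.card a.support
  let ε : a.support ≃ Fin d := Fintype.equivFin _
  let u₀ : (Fin d → R) →ₗ[R] M := Fintype.linearCombination R fun i => π (b (ε.symm i).1)
  let v₀ : M →ₗ[R] (Fin d → R) :=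
    LinearMap.pi fun i => Finsupp.lapply (ε.symm i).1 ∘ₗ b.repr.toLinearMap ∘ₗ s
  let B : Matrix (Fin d) (Fin d) R := ((A.submatrix ε.symm ε.symm)).transpose
  have hB : IsUnit B.det := by
    rw [Matrix.det_transpose, Matrix.det_submatrix_equiv_self]; exact hA
  have hvu : v₀ ∘ₗ u₀ = B.mulVecLin := (Pi.basisFun R (Fin d)).ext fun i => by
    funext j
    simp [v₀, u₀, B, A, C, Fintype.linearCombination_apply_single]
  refine ⟨d, u₀, B⁻¹.mulVecLin ∘ₗ v₀, ?_, ?_⟩
  · rw [LinearMap.comp_assoc, hvu, ← Matrix.mulVecLin_mul, Matrix.nonsing_inv_mul _ hB,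
      Matrix.mulVecLin_one]
  · refine ⟨fun i => a (ε.symm i).1, ?_⟩
    have hsx : s x = ∑ i : a.support, a i.1 • b i.1 := by
      conv_lhs => rw [← b.linearCombination_repr (s x)]
      exact (Finset.sum_coe_sort a.support fun i => a i • b i).symm
    rw [← hπs x, hsx, map_sum, Fintype.linearCombination_apply]
    simp only [map_smul]
    exact Equiv.sum_comp ε.symm fun i : a.support => a i.1 • π (b i.1)

/-- A stage of the exhaustion of a countably generated projective module by free summands. -/
lemma exists_next_idem [Module.Projective R M] (e : M →ₗ[R] M) (he : e ∘ₗ e = e) (x : M) :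
    ∃ (d : ℕ) (U : (Fin d → R) →ₗ[R] M) (V : M →ₗ[R] (Fin d → R)),
      V ∘ₗ U = LinearMap.id ∧ e ∘ₗ U = U ∧ V ∘ₗ e = V ∧ U (V x) = e x := by
  have hee : ∀ y, e (e y) = e y := fun y => congr($he y)
  have : Module.Projective R (LinearMap.range e) :=
    Module.Projective.of_split (M := M) (Submodule.subtype _) e.rangeRestrict
      (LinearMap.ext fun y => Subtype.ext (by obtain ⟨_, z, rfl⟩ := y; exact hee z))
  obtain ⟨d, u, v, hvu, z, hz⟩ := exists_free_summand (R := R) (e.rangeRestrict x)
  refine ⟨d, (Submodule.subtype _) ∘ₗ u, v ∘ₗ e.rangeRestrict, ?_, ?_, ?_, ?_⟩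
  · refine LinearMap.ext fun w => ?_
    have : e.rangeRestrict (u w : M) = u w := Subtype.ext (by
      obtain ⟨y, hy⟩ := (u w).2
      simp [← hy, hee])
    simpa [this] using congr($hvu w)
  · refine LinearMap.ext fun w => ?_
    obtain ⟨y, hy⟩ := (u w).2
    simp [← hy, hee]
  · refine LinearMap.ext fun y => ?_
    have : e.rangeRestrict (e y) = e.rangeRestrict y := Subtype.ext (hee y)
    simp [this]
  · simp only [LinearMap.comp_apply, ← hz, show v (u z) = z from congr($hvu z)]
    exact congr(($hz : M))

/-- The state after finitely many steps. -/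
structure IdemState (R : Type u) [CommRing R] (M : Type u) [AddCommGroup M] [Module R M] where
  e : M →ₗ[R] M
  idem : e ∘ₗ e = e

theorem free_of_countablyGenerated [Module.Projective R M] (hc : IsCountablyGenerated R M) :
    Module.Free R M := by
  obtain ⟨G, hG, htop⟩ := hc
  obtain ⟨x, hx⟩ := (hG.insert 0).exists_eq_range (Set.insert_nonempty _ _)
  choose d U V hVU heU hVe hUV using
    fun (st : IdemState R M) (y : M) => exists_next_idem st.e st.idem y
  let nxt : IdemState R M → M → IdemState R M := fun st y => ⟨st.e - U st y ∘ₗ V st y, by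
    simp only [LinearMap.sub_comp, LinearMap.comp_sub, st.idem, LinearMap.comp_assoc, hVe]
    rw [← LinearMap.comp_assoc (V st y) (U st y) st.e, heU,
      ← LinearMap.comp_assoc (V st y) (U st y) (V st y), hVU, LinearMap.id_comp, sub_self,
      sub_zero]⟩
  let st : ℕ → IdemState R M := fun n =>
    Nat.rec ⟨LinearMap.id, LinearMap.id_comp _⟩ (fun k s => nxt s (x k)) n
  let E := fun n => (st n).e
  let d' := fun n => d (st n) (x n)
  let U' : ∀ n, (Fin (d' n) → R) →ₗ[R] M := fun n => U (st n) (x n)
  let V' : ∀ n, M →ₗ[R] (Fin (d' n) → R) := fun n => V (st n) (x n)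
  have hsucc : ∀ n y, E (n + 1) y = E n y - U' n (V' n y) := fun n y => rfl
  have hEU : ∀ n y, E n (U' n y) = U' n y := fun n y => congr($(heU (st n) (x n)) y)
  have hVE : ∀ n y, V' n (E n y) = V' n y := fun n y => congr($(hVe (st n) (x n)) y)
  have hV : ∀ n y, V' n (U' n y) = y := fun n y => congr($(hVU (st n) (x n)) y)
  have hEE : ∀ n y, E n (E n y) = E n y := fun n y => congr($((st n).idem) y)
  have hE1 : ∀ k n, k ≤ n → ∀ y, E n (E k y) = E n y ∧ E k (E n y) = E n y := by
    intro k n hkn
    induction hkn with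
    | refl => exact fun y => ⟨hEE k y, hEE k y⟩
    | @step n hkn ih =>
      intro y
      constructor
      · rw [hsucc, hsucc, (ih y).1]
        congr 2
        rw [← hVE n (E k y), (ih y).1, hVE]
      · rw [hsucc, map_sub, (ih y).2]
        congr 1
        rw [← hEU n (V' n y), (ih (U' n (V' n y))).2]
  have hkill : ∀ n z, E (n + 1) (U' n z) = 0 := fun n z => by rw [hsucc, hV, hEU, sub_self]
  have hkill' : ∀ n y, V' n (E (n + 1) y) = 0 := fun n y => by
    rw [hsucc, map_sub, hVE, hV, sub_self]
  have horth : ∀ m k, m ≠ k → ∀ z, V' m (U' k z) = 0 := by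
    intro m k hmk z
    rcases lt_or_gt_of_ne hmk with h | h
    · rw [← hEU k z, ← (hE1 (m + 1) k h (U' k z)).2, hkill']
    · rw [← hVE m, ← (hE1 (k + 1) m h (U' k z)).1, hkill, map_zero, map_zero]
  let Φ : (DirectSum ℕ fun n => Fin (d' n) → R) →ₗ[R] M := DirectSum.toModule R ℕ M U'
  have hΦ : Function.Bijective Φ := by
    constructor
    · have hΦc : ∀ m, V' m ∘ₗ Φ = DirectSum.component R ℕ (fun n => Fin (d' n) → R) m := by
        intro m
        refine DirectSum.linearMap_ext R fun k => LinearMap.ext fun z => ?_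
        simp only [Φ, LinearMap.comp_apply, DirectSum.toModule_lof]
        rcases eq_or_ne m k with rfl | h
        · rw [hV, DirectSum.component.lof_self]
        · rw [horth m k h, DirectSum.component.of, dif_neg (Ne.symm h)]
      intro a b hab
      refine DirectSum.ext_component R fun m => ?_
      rw [← hΦc, LinearMap.comp_apply, LinearMap.comp_apply, hab]
    · rw [← LinearMap.range_eq_top, eq_top_iff, ← htop, Submodule.span_le]
      intro y hy
      obtain ⟨n, rfl⟩ : y ∈ Set.range x := hx ▸ Set.mem_insert_of_mem _ hy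
      have hrange : ∀ k z, U' k z ∈ LinearMap.range Φ := fun k z =>
        ⟨DirectSum.lof R ℕ (fun n => Fin (d' n) → R) k z, by simp [Φ]⟩
      have htel : ∀ k, x n - E k (x n) ∈ LinearMap.range Φ := by
        intro k
        induction k with
        | zero => simp [E, st]
        | succ k ih =>
          rw [hsucc, show x n - (E k (x n) - U' k (V' k (x n))) =
            (x n - E k (x n)) + U' k (V' k (x n)) by abel]
          exact add_mem ih (hrange _ _)
      have : E (n + 1) (x n) = 0 := by
        rw [hsucc, show U' n (V' n (x n)) = E n (x n) from hUV (st n) (x n), sub_self]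
      simpa [this] using htel (n + 1)
  exact Module.Free.of_equiv (LinearEquiv.ofBijective Φ hΦ)

/-- Kaplansky: projective modules over local rings are free. -/
theorem free_of_projective [Module.Projective R M] : Module.Free R M := by
  obtain ⟨κ, L, hL, hc⟩ := exists_cg_decomposition (R := R) (M := M)
  obtain ⟨e⟩ := exists_linearEquiv_directSum hL
  have : ∀ k, Module.Free R (L k) := fun k => by
    have : Module.Projective R (L k) := by
      have := Module.Projective.of_equiv e.symm
      exact Module.Projective.directSum_iff.1 this k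
    exact free_of_countablyGenerated (hc k)
  exact Module.Free.of_equiv e

end Local

end Groth.Agent.CAlgML
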