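import Groth.Agent.CAlgML.Projective

/-! More on universally injective maps and coherent modules. -/

namespace Groth.Agent.CAlgML

open TensorProduct LinearMap
open CAlgX (UniversallyInjective)

universe u

variable {R : Type u} [CommRing R]
variable {M N P : Type u} [AddCommGroup M] [Module R M] [AddCommGroup N] [Module R N]
  [AddCommGroup P] [Module R P]

lemma flat_coker_of_injective_mod_ideals (f : M →ₗ[R] N) (g : N →ₗ[R] P) (hfg : Function.Exact f g)
    (hg : Function.Surjective g) [Module.Flat R N]
    (h : ∀ I : Ideal R, I.FG → Function.Injective (f.rTensor (R ⧸ I))) : Module.Flat R P := by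
  rw [Module.Flat.iff_rTensor_injective]
  intro I hI
  rw [← LinearMap.ker_eq_bot, LinearMap.ker_eq_bot']
  intro x hx
  obtain ⟨w, rfl⟩ := LinearMap.lTensor_surjective I hg x
  rw [← lTensor_rTensor_comm] at hx
  obtain ⟨v, hv⟩ := (lTensor_exact R hfg hg _).1 hx
  have hex : Function.Exact (Submodule.subtype I) (Submodule.mkQ I) := LinearMap.exact_subtype_mkQ I
  have hq : (Submodule.mkQ I).rTensor M v = 0 := by
    apply (LinearMap.lTensor_inj_iff_rTensor_inj _ _).2 (h I hI)
    rw [map_zero, lTensor_rTensor_comm, hv, ← LinearMap.comp_apply, ← LinearMap.rTensor_comp,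
      hex.linearMap_comp_eq_zero]
    simp
  obtain ⟨a, rfl⟩ := (rTensor_exact M hex (Submodule.mkQ_surjective _) v).1 hq
  rw [lTensor_rTensor_comm] at hv
  rw [← Module.Flat.rTensor_preserves_injective_linearMap (M := N) (Submodule.subtype I)
    (Submodule.injective_subtype _) hv, ← LinearMap.comp_apply, ← LinearMap.lTensor_comp,
    hfg.linearMap_comp_eq_zero]
  simp

theorem ui_iff_mod_ideals [Module.Flat R N] (f : M →ₗ[R] N) :
    UniversallyInjective R f ↔ ∀ I : Ideal R, I.FG → Function.Injective (f.rTensor (R ⧸ I)) := by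
  refine ⟨fun h I _ => h _, fun h => ?_⟩
  have hinj : Function.Injective f := by
    intro a b hab
    let e : (R ⧸ (⊥ : Ideal R)) ≃ₗ[R] R := Submodule.quotEquivOfEqBot ⊥ rfl
    have := h ⊥ Submodule.fg_bot (a₁ := a ⊗ₜ e.symm 1) (a₂ := b ⊗ₜ e.symm 1) (by simp [hab])
    simpa using congrArg (fun t => TensorProduct.rid R M (e.toLinearMap.lTensor M t)) this
  have := flat_coker_of_injective_mod_ideals f _ (LinearMap.exact_map_mkQ_range f)
    (Submodule.mkQ_surjective _) h
  exact ui_of_flat_right f _ hinj (LinearMap.exact_map_mkQ_range f) (Submodule.mkQ_surjective _)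

theorem flat_iff_lifts : Module.Flat R M ↔
    ∀ (P : Type u) [AddCommGroup P] [Module R P], Module.FinitePresentation R P →
      ∀ (N : Type u) [AddCommGroup N] [Module R N] (g : N →ₗ[R] M), Function.Surjective g →
      ∀ h : P →ₗ[R] M, ∃ h' : P →ₗ[R] N, g.comp h' = h := by
  constructor
  · intro _ P _ _ hP N _ _ g hg h
    obtain ⟨k, a, y, rfl⟩ := Module.Flat.exists_factorization_of_finitePresentation h
    obtain ⟨y', hy'⟩ := Module.projective_lifting_property g y hg
    exact ⟨y' ∘ₗ a, by rw [← hy']; rfl⟩
  · intro hlift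
    obtain ⟨F, _, _, _, π, hπ⟩ := exists_free_cover (R := R) M
    refine (flat_of_ui (LinearMap.ker π).subtype π (LinearMap.exact_subtype_ker_map π) hπ
      (ui_of_equational _ fun n m x y a hxy => ?_)).2
    let L : Submodule R (Fin m → R) := Submodule.span R (Set.range a)
    let h₀ : (Fin m → R) →ₗ[R] M := Fintype.linearCombination R fun j => π (y j)
    have hL : L ≤ LinearMap.ker h₀ := Submodule.span_le.2 <| by
      rintro _ ⟨i, rfl⟩
      simp only [h₀, SetLike.mem_coe, LinearMap.mem_ker, Fintype.linearCombination_apply,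
        ← map_smul, ← map_sum, ← hxy i]
      exact (x i).2
    obtain ⟨h', hh'⟩ := hlift _ (finitePresentation_quotient_pi (Submodule.fg_span
      (Set.finite_range a))) F π hπ (L.liftQ h₀ hL)
    refine ⟨fun j => ⟨y j - h' (L.mkQ (Pi.single j 1)), ?_⟩, fun i => ?_⟩
    · rw [LinearMap.mem_ker, map_sub, show π (h' (L.mkQ (Pi.single j 1))) = π (y j) from
        (congr($hh' (L.mkQ (Pi.single j 1)))).trans (by simp [h₀]), sub_self]
    · apply Subtype.ext
      have h0 : h' (L.mkQ (a i)) = 0 := by
        rw [Submodule.mkQ_apply, (Submodule.Quotient.mk_eq_zero L).2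
          (Submodule.subset_span ⟨i, rfl⟩), map_zero]
      have hai : a i = ∑ j, a i j • Pi.single j (1 : R) :=
        (pi_eq_sum_univ' (a i)).trans (by simp [← Pi.single_smul])
      rw [hai] at h0
      simp only [map_sum, map_smul, Submodule.mkQ_apply] at h0
      simp [smul_sub, Finset.sum_sub_distrib, h0, ← hxy i]

theorem coherent_of_shortExact (f : M →ₗ[R] N) (g : N →ₗ[R] P) (hf : Function.Injective f)
    (hg : Function.Surjective g) (hfg : LinearMap.range f = LinearMap.ker g)
    (h₁ : Module.Finite R M ∧ ∀ S : Submodule R M, S.FG → Module.FinitePresentation R S)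
    (h₃ : Module.Finite R P ∧ ∀ S : Submodule R P, S.FG → Module.FinitePresentation R S) :
    Module.Finite R N ∧ ∀ S : Submodule R N, S.FG → Module.FinitePresentation R S := by
  obtain ⟨hM, hM'⟩ := h₁
  obtain ⟨hP, hP'⟩ := h₃
  refine ⟨⟨Submodule.fg_of_fg_map_of_fg_inf_ker g ?_ ?_⟩, fun S hS => ?_⟩
  · rw [Submodule.map_top, LinearMap.range_eq_top.2 hg]; exact hP.fg_top
  · rw [top_inf_eq, ← hfg, LinearMap.range_eq_map]; exact hM.fg_top.map f
  · have hSfin := Module.Finite.iff_fg.2 hS
    have := hP' _ (hS.map g)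
    let q : S →ₗ[R] S.map g := g.restrict fun x hx => Submodule.mem_map_of_mem hx
    have hq : Function.Surjective q := by
      rintro ⟨_, x, hx, rfl⟩
      exact ⟨⟨x, hx⟩, rfl⟩
    have hker : (LinearMap.ker q).map S.subtype = (S.comap f).map f := by
      rw [Submodule.map_comap_eq, hfg]
      ext x
      simp [q, and_comm, LinearMap.restrict_apply, ← Subtype.val_inj]
    have hfg' : (S.comap f).FG := Submodule.fg_of_fg_map_injective f hf
      (hker ▸ (Module.FinitePresentation.fg_ker q hq).map _)
    have := hM' _ hfg'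
    have : Module.FinitePresentation R (LinearMap.ker q) :=
      Module.FinitePresentation.of_equiv (((LinearEquiv.ofEq _ _ hker.symm).symm.trans
        (Submodule.equivMapOfInjective f hf _).symm).symm.trans
        (Submodule.equivMapOfInjective _ S.injective_subtype _).symm)
    exact Module.finitePresentation_of_ker q hq

end Groth.Agent.CAlgML
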