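import Groth.Agent.CAlgML.PiTensor
import Mathlib.LinearAlgebra.TensorProduct.Finiteness
import Mathlib.LinearAlgebra.Finsupp.LinearCombination

/-! Maps out of finitely presented modules killing an element of a tensor product. -/

namespace Groth.Agent.CAlgML

open TensorProduct LinearMap

universe u v w

variable {R : Type u} [CommRing R]

/-- Every element of `M ⊗ Q` comes from `M ⊗ R^k`. -/
lemma exists_lTensor_fin_eq {M : Type*} [AddCommGroup M] [Module R M] {Q : Type*} [AddCommGroup Q]
    [Module R Q] (x : M ⊗[R] Q) :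
    ∃ (k : ℕ) (q : (Fin k → R) →ₗ[R] Q) (y : M ⊗[R] (Fin k → R)), q.lTensor M y = x := by
  classical
  obtain ⟨k, m, n, rfl⟩ := exists_sum_tmul_eq x
  refine ⟨k, Fintype.linearCombination R n, ∑ i, m i ⊗ₜ Pi.single i 1, ?_⟩
  simp [Fintype.linearCombination_apply_single]

lemma exists_res {M : Type*} [AddCommGroup M] [Module R M] (T : Finset M) :
    ∃ (N : ℕ) (res : (M →₀ R) →ₗ[R] (Fin N → R)) (h0 : (Fin N → R) →ₗ[R] M),
      ∀ a : M →₀ R, a.support ⊆ T → h0 (res a) = Finsupp.linearCombination R id a := by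
  classical
  let e : Fin T.card ≃ T := T.equivFin.symm
  refine ⟨T.card, LinearMap.pi fun i => Finsupp.lapply (e i : M),
    Fintype.linearCombination R fun i => (e i : M), fun a ha => ?_⟩
  simp only [Fintype.linearCombination_apply, LinearMap.pi_apply, Finsupp.lapply_apply,
    Finsupp.linearCombination_apply, id_eq]
  rw [Finsupp.sum_of_support_subset a ha _ (by simp), ← Finset.sum_coe_sort T]
  exact e.sum_comp (fun m : T => a (m : M) • (m : M))

/-- If `P` is finitely presented and `f : P → M` kills `x ∈ P ⊗ Q` after tensoring, then `f` factors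
through a finitely presented module in which `x` already dies. -/
theorem exists_finitePresentation_factor {P : Type w} [AddCommGroup P] [Module R P]
    [Module.FinitePresentation R P] {M : Type v} [AddCommGroup M] [Module R M] {Q : Type*}
    [AddCommGroup Q] [Module R Q] (f : P →ₗ[R] M) (x : P ⊗[R] Q) (hx : f.rTensor Q x = 0) :
    ∃ (N : ℕ) (L : Submodule R (Fin N → R)) (_ : L.FG) (f' : P →ₗ[R] (Fin N → R) ⧸ L)
      (h : ((Fin N → R) ⧸ L) →ₗ[R] M), f = h ∘ₗ f' ∧ f'.rTensor Q x = 0 := by
  classical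
  obtain ⟨n, m, p, K, hp, hKp⟩ := Module.FinitePresentation.exists_fin' R P
  obtain ⟨x', rfl⟩ := LinearMap.rTensor_surjective Q hp x
  let π : (M →₀ R) →ₗ[R] M := Finsupp.linearCombination R id
  have hπ : Function.Surjective π := fun a => ⟨Finsupp.single a 1, by simp [π]⟩
  obtain ⟨φ, hφ⟩ := Module.projective_lifting_property π (f ∘ₗ p) hπ
  have h0 : π.rTensor Q (φ.rTensor Q x') = 0 := by
    rw [← rTensor_comp_apply, hφ, rTensor_comp_apply, hx]
  have hex : Function.Exact (LinearMap.ker π).subtype π := LinearMap.exact_subtype_ker_map π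
  have h1 := @rTensor_exact R (LinearMap.ker π) (M →₀ R) M _ _ _ _ _ _ _ (LinearMap.ker π).subtype π Q _ _ hex hπ
  obtain ⟨z, hz⟩ := (h1 _).1 h0
  obtain ⟨t, l, q, rfl⟩ := exists_sum_tmul_eq z
  let T : Finset M := (Finset.univ.biUnion fun i : Fin n => (φ (Pi.single i 1)).support) ∪
    Finset.univ.biUnion fun k => (l k : M →₀ R).support
  obtain ⟨N, res, h0, hres⟩ := exists_res (R := R) T
  have hresφ : h0 ∘ₗ res ∘ₗ φ = f ∘ₗ p := by
    refine (Pi.basisFun R (Fin n)).ext fun i => ?_
    rw [← hφ]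
    simp only [Pi.basisFun_apply, LinearMap.comp_apply]
    have hT : (φ (Pi.single i 1)).support ⊆ T := fun a ha =>
      Finset.mem_union_left _ (Finset.mem_biUnion.2 ⟨i, Finset.mem_univ i, ha⟩)
    exact hres _ hT
  let L : Submodule R (Fin N → R) :=
    LinearMap.range (res ∘ₗ φ ∘ₗ K) ⊔ Submodule.span R (Set.range fun k => res (l k : M →₀ R))
  have hL : L.FG := Submodule.FG.sup (by rw [LinearMap.range_eq_map]; exact Module.Finite.fg_top.map _)
    (Submodule.fg_span (Set.finite_range _))
  have hLh : L ≤ LinearMap.ker h0 := by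
    refine sup_le ?_ (Submodule.span_le.2 ?_)
    · rintro _ ⟨a, rfl⟩
      rw [LinearMap.mem_ker, LinearMap.comp_apply, LinearMap.comp_apply]
      have := congr($hresφ (K a))
      simp only [LinearMap.comp_apply] at this
      rw [this, hKp.apply_apply_eq_zero, map_zero]
    · rintro _ ⟨k, rfl⟩
      have hT : (l k : M →₀ R).support ⊆ T := fun a ha =>
        Finset.mem_union_right _ (Finset.mem_biUnion.2 ⟨k, Finset.mem_univ k, ha⟩)
      rw [SetLike.mem_coe, LinearMap.mem_ker, hres _ hT]
      exact (l k).2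
  have hker : LinearMap.ker p ≤ LinearMap.ker (L.mkQ ∘ₗ res ∘ₗ φ) := by
    intro a ha
    obtain ⟨b, rfl⟩ := (hKp a).1 ha
    simp only [LinearMap.mem_ker, LinearMap.comp_apply, Submodule.mkQ_apply,
      Submodule.Quotient.mk_eq_zero]
    exact Submodule.mem_sup_left ⟨b, rfl⟩
  let f' : P →ₗ[R] (Fin N → R) ⧸ L :=
    (LinearMap.ker p).liftQ (L.mkQ ∘ₗ res ∘ₗ φ) hker ∘ₗ (p.quotKerEquivOfSurjective hp).symm
  have hf'p : ∀ a, f' (p a) = L.mkQ (res (φ a)) := by
    intro a
    have : (p.quotKerEquivOfSurjective hp).symm (p a) = (LinearMap.ker p).mkQ a :=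
      (LinearEquiv.symm_apply_eq _).2 rfl
    simp [f', this]
  refine ⟨N, L, hL, f', L.liftQ h0 hLh, ?_, ?_⟩
  · refine LinearMap.ext fun b => ?_
    obtain ⟨a, rfl⟩ := hp b
    rw [LinearMap.comp_apply, hf'p]
    simpa using congr($hresφ a).symm
  · have : f' ∘ₗ p = (L.mkQ ∘ₗ res) ∘ₗ φ := LinearMap.ext hf'p
    rw [← rTensor_comp_apply, this, rTensor_comp_apply, ← hz, map_sum, map_sum]
    refine Finset.sum_eq_zero fun k _ => ?_
    have : L.mkQ (res (l k : M →₀ R)) = 0 := (Submodule.Quotient.mk_eq_zero _).2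
      (Submodule.mem_sup_right (Submodule.subset_span ⟨k, rfl⟩))
    simp only [rTensor_tmul, Submodule.subtype_apply, LinearMap.comp_apply, this, zero_tmul]

lemma finitePresentation_quotient_pi {N : ℕ} {L : Submodule R (Fin N → R)} (hL : L.FG) :
    Module.FinitePresentation R ((Fin N → R) ⧸ L) :=
  Module.finitePresentation_of_surjective L.mkQ L.mkQ_surjective (by rwa [Submodule.ker_mkQ])

end Groth.Agent.CAlgML
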