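import Groth.Agent.CAlgML.Countable
import Groth.Agent.HenselLib.Idem
import Mathlib.RingTheory.Henselian
import Mathlib.RingTheory.Artinian.Ring
import Mathlib.RingTheory.Artinian.Instances

/-!
# Countably generated Mittag-Leffler modules over henselian local rings
-/

namespace Groth.Agent.CAlgML

open TensorProduct Polynomial
open CAlg (IsMittagLeffler IsCountablyGenerated)
open scoped Classical

universe u

variable {R : Type u} [CommRing R]

/-- A retract of a Mittag-Leffler module is Mittag-Leffler. -/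
theorem ml_of_retract {M N : Type u} [AddCommGroup M] [Module R M] [AddCommGroup N] [Module R N]
    (i : N →ₗ[R] M) (p : M →ₗ[R] N) (h : p ∘ₗ i = LinearMap.id) (hM : IsMittagLeffler R M) :
    IsMittagLeffler R N := by
  intro ι Q _ _ a b hab
  have hnat : ∀ z : N ⊗[R] ((j : ι) → Q j), TensorProduct.piRightHom R R M Q (i.rTensor _ z) =
      fun j => i.rTensor (Q j) (TensorProduct.piRightHom R R N Q z j) := by
    intro z
    induction z using TensorProduct.induction_on with
    | zero => simp only [map_zero, Pi.zero_apply]; rfl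
    | add x y hx hy => funext j; simp only [map_add, Pi.add_apply, hx, hy]
    | tmul x f => funext j; simp
  have hinv : ∀ z : N ⊗[R] ((j : ι) → Q j), p.rTensor _ (i.rTensor _ z) = z := fun z => by
    rw [← LinearMap.comp_apply, ← LinearMap.rTensor_comp, h, LinearMap.rTensor_id, LinearMap.id_apply]
  rw [← hinv a, ← hinv b]
  congr 1
  apply hM ι Q
  rw [hnat, hnat, hab]

/-- In a finite algebra over a henselian local ring every element is a unit on one idempotent part and
is topologically nilpotent on the other. -/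
theorem exists_idempotent_split [HenselianLocalRing R] {S : Type u} [CommRing S] [Algebra R S]
    [Module.Finite R S] (β : S) :
    ∃ e w : S, IsIdempotentElem e ∧ w * β = e ∧ w * e = w ∧ IsUnit (1 - (1 - e) * β) := by
  let m := IsLocalRing.maximalIdeal R
  let J := m.map (algebraMap R S)
  have : Algebra.IsIntegral R S := Algebra.IsIntegral.of_finite R S
  have hjac : J ≤ Ideal.jacobson ⊥ :=
    HenselLib.map_le_jacobson_of_isIntegral (IsLocalRing.maximalIdeal_le_jacobson _) S
  have : IsArtinianRing (S ⧸ J) := by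
    let _ : Field (R ⧸ m) := Ideal.Quotient.field m
    have : Module.Finite (R ⧸ m) (S ⧸ J) := Module.Finite.of_restrictScalars_finite R _ _
    exact IsArtinianRing.of_finite (R ⧸ m) (S ⧸ J)
  let π := Ideal.Quotient.mk J
  obtain ⟨n, y, hy⟩ := IsArtinian.exists_pow_succ_smul_dvd (π β) (1 : S ⧸ J)
  rw [smul_eq_mul, smul_eq_mul, mul_one] at hy
  have hpow : ∀ k, π β ^ n = π β ^ (n + k) * y ^ k := by
    intro k
    induction k with
    | zero => simp
    | succ k ih =>
      rw [show π β ^ (n + (k + 1)) * y ^ (k + 1) = π β ^ (n + 1) * y * (π β ^ k * y ^ k) by ring, hy, ← mul_assoc,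
        ← pow_add]
      exact ih
  let N := n + 1
  have hN : π β ^ N = π β ^ (N + N) * y ^ N := by
    calc π β ^ N = π β ^ n * π β := pow_succ _ _
      _ = π β ^ (n + N) * y ^ N * π β := by rw [← hpow]
      _ = _ := by ring
  obtain ⟨y', hy'⟩ := Ideal.Quotient.mk_surjective (y ^ N)
  have hb : (β ^ N * y') * (β ^ N * y') - β ^ N * y' ∈ J := by
    rw [← Ideal.Quotient.mk_eq_mk_iff_sub_mem, map_mul, map_mul, map_pow, hy']
    linear_combination (-(y ^ N)) * hN
  obtain ⟨e, he, heb⟩ := HenselLib.exists_idempotent m (β ^ N * y') hb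
  have hπe : π e = π β ^ N * y ^ N := by
    rw [← hy', ← map_pow, ← map_mul]
    exact (Ideal.Quotient.mk_eq_mk_iff_sub_mem _ _).2 heb
  have hu : IsUnit (1 - e + e * (β ^ N * y')) := by
    refine HenselLib.isUnit_of_sub_one_mem hjac ?_
    rw [← Ideal.Quotient.mk_eq_mk_iff_sub_mem, map_add, map_sub, map_one, map_mul, map_mul, map_pow, hy']
    have he' : π e * π e = π e := by rw [← map_mul, he.eq]
    linear_combination (-π e) * hπe + he'
  obtain ⟨u, hu'⟩ := hu.exists_left_inv
  refine ⟨e, e * (β ^ n * y') * u, he, ?_, ?_, ?_⟩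
  · linear_combination e * hu' + (u * (1 - β ^ N * y')) * he.eq
  · linear_combination ((β ^ n * y') * u) * he.eq
  · refine HenselLib.isUnit_of_sub_one_mem (I := Ideal.jacobson (⊥ : Ideal S)) le_rfl ?_
    rw [sub_right_comm, sub_self, zero_sub, neg_mem_iff]
    refine Submodule.mem_sInf.2 ?_
    rintro (P : Ideal S) ⟨-, hP : P.IsMaximal⟩
    have hmem : (1 - e) * β ^ N ∈ P := by
      refine (hjac.trans (sInf_le ⟨bot_le, hP⟩) : J ≤ P) ?_
      rw [← Ideal.Quotient.eq_zero_iff_mem, map_mul, map_sub, map_one, map_pow, hπe]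
      linear_combination hN
    rcases hP.isPrime.mem_or_mem hmem with h | h
    · exact P.mul_mem_right _ h
    · exact P.mul_mem_left _ (hP.isPrime.mem_of_pow_mem _ h)

variable [HenselianLocalRing R] {M : Type u} [AddCommGroup M] [Module R M]

/-- An element of a countably generated Mittag-Leffler module over a henselian local ring lies in a
finitely presented direct summand. -/
theorem exists_projection (hM : IsMittagLeffler R M) (hc : IsCountablyGenerated R M) (x : M) :
    ∃ ψ : M →ₗ[R] M, ψ ∘ₗ ψ = ψ ∧ ψ x = x ∧ Module.FinitePresentation R (LinearMap.range ψ) := by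
  obtain ⟨Q, _, _, _, b, c, hcb⟩ := exists_endo_factor hM hc (LinearMap.toSpanSingleton R M x)
  have hx : c (b x) = x := by simpa using LinearMap.congr_fun hcb 1
  let β : Module.End R Q := b ∘ₗ c
  obtain ⟨f, hf, hfβ⟩ := LinearMap.exists_monic_and_aeval_eq_zero R β
  let S := R[X] ⧸ Ideal.span {f}
  have : Module.Finite R S := hf.finite_quotient
  let ρ : S →ₐ[R] Module.End R Q := Ideal.Quotient.liftₐ _ (aeval β) fun g hg => by
    obtain ⟨q, rfl⟩ := Ideal.mem_span_singleton'.1 hg
    rw [map_mul, hfβ, mul_zero]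
  let t : S := Ideal.Quotient.mk _ Polynomial.X
  have hρ : ρ t = β := Polynomial.aeval_X β
  obtain ⟨e, w, he, hwe, hw, v, hv⟩ := exists_idempotent_split (R := R) t
  have hbc : ∀ q, b (c q) = ρ t q := fun q => (LinearMap.congr_fun hρ q).symm
  have hmul : ∀ (a a' : S) (q : Q), ρ a (ρ a' q) = ρ (a * a') q := fun a a' q => by rw [map_mul]; rfl
  have hwbc : ∀ (a : S) (q : Q), ρ a (b (c (ρ w q))) = ρ (a * e) q := fun a q => by
    rw [hbc, hmul, hmul, mul_assoc, mul_comm t w, hwe]
  let ψ : M →ₗ[R] M := c ∘ₗ ρ w ∘ₗ b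
  have hψψ : ∀ m, ψ (ψ m) = ψ m := fun m => by
    show c (ρ w (b (c (ρ w (b m))))) = c (ρ w (b m))
    rw [hwbc, hw]
  have hez : ρ e (b x) = b x := by
    have h1 : ρ t (b x) = b x := by rw [← hbc, hx]
    have h2 : ρ (1 - e) (b x) = 0 := by
      have h3 : ρ ((1 - (1 - e) * t) * (1 - e)) (b x) = 0 := by
        rw [show (1 - (1 - e) * t) * (1 - e) = (1 - e) - (1 - e) * t by linear_combination (-t) * he.eq,
          map_sub, LinearMap.sub_apply, ← hmul (1 - e) t, h1, sub_self]
      have h4 := congrArg (ρ (↑v⁻¹ : S)) h3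
      rw [hmul, map_zero, ← mul_assoc, ← hv, Units.inv_mul, one_mul] at h4
      exact h4
    rw [map_sub, LinearMap.sub_apply, map_one, Module.End.one_apply, sub_eq_zero] at h2
    exact h2.symm
  refine ⟨ψ, LinearMap.ext hψψ, ?_, ?_⟩
  · show c (ρ w (b x)) = x
    have : ρ w (b x) = b x := by
      conv_rhs => rw [← hez, ← hwe, ← hmul, ← hbc, hx]
    rw [this, hx]
  · have hmem : ∀ q, c (ρ w q) ∈ LinearMap.range ψ := fun q => ⟨c (ρ w q), by
      show c (ρ w (b (c (ρ w q)))) = _
      rw [hwbc, hw]⟩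
    let p : Q →ₗ[R] LinearMap.range ψ := (c ∘ₗ ρ w).codRestrict _ hmem
    let i : LinearMap.range ψ →ₗ[R] Q := b ∘ₗ (LinearMap.range ψ).subtype
    have hpi : ∀ z, p (i z) = z := fun ⟨_, m, rfl⟩ => Subtype.ext (hψψ m)
    refine Module.finitePresentation_of_surjective p (fun z => ⟨i z, hpi z⟩) ?_
    have hker : LinearMap.ker p = LinearMap.range (LinearMap.id - i ∘ₗ p) := by
      ext q
      rw [LinearMap.mem_ker, LinearMap.mem_range]
      constructor
      · exact fun hq => ⟨q, by simp [hq]⟩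
      · rintro ⟨q, rfl⟩; simp [hpi]
    rw [hker, LinearMap.range_eq_map]
    exact Module.Finite.fg_top.map _

/-- A countably generated Mittag-Leffler module over a henselian local ring is a direct sum of
finitely presented submodules. -/
theorem exists_isInternal_finitePresentation (hM : IsMittagLeffler R M) (hc : IsCountablyGenerated R M) :
    ∃ (ι : Type u) (N : ι → Submodule R M), DirectSum.IsInternal N ∧
      ∀ i, Module.FinitePresentation R (N i) := by
  classical
  obtain ⟨G, hG, hGtop⟩ := hc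
  obtain ⟨m, hm⟩ : ∃ m : ℕ → M, insert (0 : M) G = Set.range m :=
    (hG.insert 0).exists_eq_range (Set.insert_nonempty _ _)
  have hstep : ∀ (θ : M →ₗ[R] M) (x : M), θ ∘ₗ θ = θ → ∃ ψ : M →ₗ[R] M, ψ ∘ₗ ψ = ψ ∧ θ ∘ₗ ψ = ψ ∧
      ψ ∘ₗ θ = ψ ∧ ψ x = θ x ∧ Module.FinitePresentation R (LinearMap.range ψ) := by
    intro θ x hθ
    let p : M →ₗ[R] LinearMap.range θ := θ.rangeRestrict
    let i := (LinearMap.range θ).subtype
    have hpi : p ∘ₗ i = LinearMap.id := by
      refine LinearMap.ext fun ⟨_, z, rfl⟩ => Subtype.ext ?_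
      exact LinearMap.congr_fun hθ z
    have hc' : IsCountablyGenerated R (LinearMap.range θ) := by
      refine ⟨p '' G, hG.image _, ?_⟩
      rw [← Submodule.map_span, hGtop, Submodule.map_top, LinearMap.range_eq_top]
      exact θ.surjective_rangeRestrict
    obtain ⟨ψ, hψ, hψx, hfp⟩ := exists_projection (ml_of_retract i p hpi hM) hc' (p x)
    refine ⟨i ∘ₗ ψ ∘ₗ p, ?_, ?_, ?_, ?_, ?_⟩
    · refine LinearMap.ext fun z => ?_
      show i (ψ ((p ∘ₗ i) (ψ (p z)))) = i (ψ (p z))
      rw [hpi, LinearMap.id_apply, ← LinearMap.comp_apply ψ ψ, hψ]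
    · refine LinearMap.ext fun z => ?_
      show i ((p ∘ₗ i) (ψ (p z))) = i (ψ (p z))
      rw [hpi]; rfl
    · refine LinearMap.ext fun z => ?_
      show i (ψ ((p ∘ₗ i) (p z))) = i (ψ (p z))
      rw [hpi]; rfl
    · show i (ψ (p x)) = θ x
      rw [hψx]; rfl
    · let e := Submodule.equivMapOfInjective i Subtype.val_injective (LinearMap.range ψ)
      have hr : (LinearMap.range ψ).map i = LinearMap.range (i ∘ₗ ψ ∘ₗ p) := by
        rw [← LinearMap.comp_assoc, LinearMap.range_comp_of_range_eq_top _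
          (LinearMap.range_eq_top.2 θ.surjective_rangeRestrict), LinearMap.range_comp]
      exact Module.FinitePresentation.of_equiv (e.trans (LinearEquiv.ofEq _ _ hr))
  choose! F hF1 hF2 hF3 hF4 hF5 using hstep
  let θ : ℕ → M →ₗ[R] M := fun k => Nat.rec LinearMap.id (fun n t => t - F t (m n)) k
  let ψ : ℕ → M →ₗ[R] M := fun n => F (θ n) (m n)
  have hθs : ∀ n, θ (n + 1) = θ n - ψ n := fun n => rfl
  have hidem : ∀ n, θ n ∘ₗ θ n = θ n := by
    intro n
    induction n with
    | zero => exact LinearMap.id_comp _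
    | succ n ih =>
      rw [hθs, LinearMap.sub_comp, LinearMap.comp_sub, LinearMap.comp_sub, ih, hF2 _ (m n) ih,
        hF3 _ (m n) ih, hF1 _ (m n) ih, sub_self, sub_zero]
  have hle : ∀ a b, a ≤ b → θ a ∘ₗ θ b = θ b ∧ θ b ∘ₗ θ a = θ b := by
    intro a b hab
    induction b, hab using Nat.le_induction with
    | base => exact ⟨hidem a, hidem a⟩
    | succ b _ ih =>
      rw [hθs, LinearMap.sub_comp, LinearMap.comp_sub, ih.1, ih.2]
      refine ⟨?_, ?_⟩
      · rw [show θ a ∘ₗ ψ b = ψ b by
          conv_lhs => rw [show ψ b = θ b ∘ₗ ψ b from (hF2 _ _ (hidem b)).symm, ← LinearMap.comp_assoc, ih.1]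
          exact hF2 _ _ (hidem b)]
      · rw [show ψ b ∘ₗ θ a = ψ b by
          conv_lhs => rw [show ψ b = ψ b ∘ₗ θ b from (hF3 _ _ (hidem b)).symm, LinearMap.comp_assoc, ih.2]
          exact hF3 _ _ (hidem b)]
  have horth : ∀ j k, j ≠ k → ∀ z, ψ k (ψ j z) = 0 := by
    intro j k hjk z
    have hf2 : ∀ n z, θ n (ψ n z) = ψ n z := fun n => LinearMap.congr_fun (hF2 _ _ (hidem n))
    have hf3 : ∀ n z, ψ n (θ n z) = ψ n z := fun n => LinearMap.congr_fun (hF3 _ _ (hidem n))
    have hf1 : ∀ n z, ψ n (ψ n z) = ψ n z := fun n => LinearMap.congr_fun (hF1 _ _ (hidem n))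
    rcases lt_or_gt_of_ne hjk with h | h
    · have h1 : θ (j + 1) (ψ j z) = 0 := by rw [hθs, LinearMap.sub_apply, hf2, hf1, sub_self]
      rw [← hf3 k, ← (hle (j + 1) k h).2, LinearMap.comp_apply, h1, map_zero, map_zero]
    · have h1 : ∀ u, ψ k (θ (k + 1) u) = 0 := fun u => by
        rw [hθs, LinearMap.sub_apply, map_sub, hf3, hf1, sub_self]
      rw [← hf2 j, ← (hle (k + 1) j h).1, LinearMap.comp_apply, h1]
  refine ⟨ULift.{u} ℕ, fun n => LinearMap.range (ψ n.down), ?_, fun n => hF5 _ _ (hidem _)⟩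
  suffices h : iSupIndep (fun n : ULift.{u} ℕ => LinearMap.range (ψ n.down)) ∧
      (⨆ n : ULift.{u} ℕ, LinearMap.range (ψ n.down)) = ⊤ by
    convert (DirectSum.isInternal_submodule_iff_iSupIndep_and_iSup_eq_top _).2 h
  refine ⟨fun k => ?_, ?_⟩
  · rw [Submodule.disjoint_def]
    rintro _ ⟨z, rfl⟩ hz
    have hker : (⨆ (j) (_ : j ≠ k), LinearMap.range (ψ j.down)) ≤ LinearMap.ker (ψ k.down) :=
      iSup₂_le fun j hj => by
        rintro _ ⟨u, rfl⟩
        exact horth _ _ (fun h => hj (ULift.ext _ _ h)) u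
    have := hker hz
    rwa [LinearMap.mem_ker, ← LinearMap.comp_apply (ψ k.down), hF1 _ _ (hidem _)] at this
  · rw [eq_top_iff, ← hGtop, Submodule.span_le]
    intro x hx
    obtain ⟨n, rfl⟩ : x ∈ Set.range m := hm ▸ Set.mem_insert_of_mem _ hx
    let T := ⨆ k : ULift.{u} ℕ, LinearMap.range (ψ k.down)
    have hT : ∀ k z, ψ k z ∈ T := fun k z => Submodule.mem_iSup_of_mem (ULift.up k) ⟨z, rfl⟩
    have hsum : ∀ k z, z - θ k z ∈ T := by
      intro k z
      induction k with
      | zero => simp [θ]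
      | succ k ih =>
        rw [hθs, LinearMap.sub_apply, sub_sub_eq_add_sub, add_sub_right_comm]
        exact T.add_mem ih (hT k z)
    have h := T.add_mem (hsum n (m n)) (hT n (m n))
    rwa [show ψ n (m n) = θ n (m n) from hF4 _ _ (hidem n), sub_add_cancel] at h

end Groth.Agent.CAlgML
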