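import Groth.Agent.CAlgML.Countable
import Mathlib.Algebra.DirectSum.Module
import Mathlib.Order.Zorn
import Mathlib.Order.SuccPred.Limit
import Mathlib.LinearAlgebra.Projection
import Mathlib.SetTheory.Cardinal.Order

/-! Kaplansky dévissage: direct sums of countably generated modules. -/

namespace Groth.Agent.CAlgML

open CAlg (IsCountablyGenerated IsMittagLeffler)
open scoped Classical

universe u

variable {R : Type u} [CommRing R] {M : Type u} [AddCommGroup M] [Module R M]

/-- A submodule spanned by a countable set. -/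
def CG (P : Submodule R M) : Prop := ∃ s : Set M, s.Countable ∧ Submodule.span R s = P

lemma CG.map {N : Type u} [AddCommGroup N] [Module R N] (f : M →ₗ[R] N) {P : Submodule R M}
    (h : CG P) : CG (P.map f) := by
  obtain ⟨s, hs, rfl⟩ := h
  exact ⟨f '' s, hs.image f, (Submodule.map_span f s).symm⟩

lemma CG.biSup {ι : Type*} {K : Set ι} (hK : K.Countable) {N : ι → Submodule R M}
    (h : ∀ i ∈ K, CG (N i)) : CG (⨆ i ∈ K, N i) := by
  choose s hs hs' using h
  refine ⟨⋃ i, ⋃ hi : i ∈ K, s i hi, hK.biUnion hs, ?_⟩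
  simp only [Submodule.span_iUnion, hs']

lemma cg_iff (P : Submodule R M) : CG P ↔ IsCountablyGenerated R P := by
  constructor
  · rintro ⟨s, hs, rfl⟩
    refine ⟨Subtype.val ⁻¹' s, hs.preimage Subtype.val_injective, ?_⟩
    exact Submodule.span_span_coe_preimage
  · intro h
    obtain ⟨s, hs, htop⟩ := h
    refine ⟨P.subtype '' s, hs.image _, ?_⟩
    rw [← Submodule.map_span, htop, Submodule.map_subtype_top]

lemma isCountablyGenerated_of_surjective {N : Type u} [AddCommGroup N] [Module R N] (f : M →ₗ[R] N)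
    (hf : Function.Surjective f) (h : IsCountablyGenerated R M) : IsCountablyGenerated R N := by
  obtain ⟨s, hs, htop⟩ := h
  exact ⟨f '' s, hs.image f, by rw [← Submodule.map_span, htop, Submodule.map_top,
    LinearMap.range_eq_top.2 hf]⟩

lemma isInternal_of_indep_top {ι : Type*} {A : ι → Submodule R M} (hi : iSupIndep A)
    (hs : iSup A = ⊤) : DirectSum.IsInternal A :=
  (DirectSum.isInternal_submodule_iff_iSupIndep_and_iSup_eq_top A).2 ⟨hi, hs⟩

lemma sSupIndep_insert {𝓛 : Set (Submodule R M)} (h : sSupIndep 𝓛) {C : Submodule R M}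
    (hC : Disjoint (sSup 𝓛) C) : sSupIndep (insert C 𝓛) := by
  rintro a ha
  rw [Submodule.disjoint_def]
  intro x hx hx'
  rcases eq_or_ne a C with rfl | hne
  · have : insert a 𝓛 \ {a} ⊆ 𝓛 := fun b hb =>
      (Set.mem_insert_iff.1 hb.1).resolve_left hb.2
    exact Submodule.disjoint_def.1 hC x (sSup_le_sSup this hx') hx
  · have ha' : a ∈ 𝓛 := (Set.mem_insert_iff.1 ha).resolve_left hne
    have hle : sSup (insert C 𝓛 \ {a}) ≤ C ⊔ sSup (𝓛 \ {a}) := sSup_le fun b hb => by
      rcases Set.mem_insert_iff.1 hb.1 with rfl | hb'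
      · exact le_sup_left
      · exact le_sup_of_le_right (le_sSup ⟨hb', hb.2⟩)
    obtain ⟨c, hc, y, hy, rfl⟩ := Submodule.mem_sup.1 (hle hx')
    have hy' : y ∈ sSup 𝓛 := (sSup_le_sSup Set.sdiff_subset : sSup (𝓛 \ {a}) ≤ sSup 𝓛) hy
    have hc0 : c = 0 := Submodule.disjoint_def.1 hC c
      (by simpa using sub_mem ((le_sSup ha' : a ≤ sSup 𝓛) hx) hy') hc
    subst hc0
    rw [zero_add] at hx ⊢
    exact Submodule.disjoint_def.1 (h ha') y hx hy

/-- The transfinite extension principle behind Kaplansky's theorem. -/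
theorem exists_internal_of_extend {ι : Type u} (Φ : Set ι → Submodule R M → Prop)
    (Piece : Submodule R M → Prop) (h0 : Φ ∅ ⊥)
    (hchain : ∀ (c : Set (Set ι × Submodule R M)), c.Nonempty → IsChain (· ≤ ·) c →
      (∀ z ∈ c, Φ z.1 z.2) → Φ (⋃ z ∈ c, z.1) (⨆ z ∈ c, z.2))
    (hext : ∀ J A, Φ J A → J ≠ Set.univ →
      ∃ J', J ⊂ J' ∧ ∃ C, Piece C ∧ Disjoint A C ∧ Φ J' (A ⊔ C)) :
    ∃ 𝓛 : Set (Submodule R M), sSupIndep 𝓛 ∧ (∀ L ∈ 𝓛, Piece L) ∧ Φ Set.univ (sSup 𝓛) := by
  let T : Set (Set ι × Set (Submodule R M)) :=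
    {z | sSupIndep z.2 ∧ (∀ L ∈ z.2, Piece L) ∧ Φ z.1 (sSup z.2)}
  obtain ⟨⟨J, 𝓛⟩, hmax⟩ := zorn_le₀ T fun c hcT hc => by
    rcases c.eq_empty_or_nonempty with rfl | hne
    · exact ⟨(∅, ∅), ⟨fun a ha => ha.elim, fun L hL => hL.elim, by simpa using h0⟩,
        fun z hz => hz.elim⟩
    refine ⟨(⋃ z ∈ c, z.1, ⋃ z ∈ c, z.2), ⟨?_, ?_, ?_⟩, fun z hz =>
      ⟨Set.subset_biUnion_of_mem (u := fun w => w.1) hz,
        Set.subset_biUnion_of_mem (u := fun w => w.2) hz⟩⟩
    · show sSupIndep (⋃ z ∈ c, z.2)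
      rw [Set.biUnion_eq_iUnion]
      refine sSupIndep_iUnion_of_directed ?_ fun z => (hcT z.2).1
      intro a b
      rcases hc.total a.2 b.2 with h | h
      · exact ⟨b, h.2, subset_rfl⟩
      · exact ⟨a, subset_rfl, h.2⟩
    · intro L hL
      simp only [Set.mem_iUnion] at hL
      obtain ⟨z, hz, hL⟩ := hL
      exact (hcT hz).2.1 L hL
    · have key := hchain ((fun z => (z.1, sSup z.2)) '' c) (hne.image _)
        (hc.image_of_map_rel _ _ _ fun a b h => ⟨h.1, sSup_le_sSup h.2⟩)
        (by rintro _ ⟨z, hz, rfl⟩; exact (hcT hz).2.2)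
      simp only [Set.biUnion_image, iSup_image] at key
      simpa [sSup_iUnion] using key
  obtain ⟨hindep, hpiece, hΦ⟩ := hmax.prop
  refine ⟨𝓛, hindep, hpiece, ?_⟩
  rcases eq_or_ne J Set.univ with rfl | hne
  · exact hΦ
  obtain ⟨J', hJ', C, hC, hdisj, hΦ'⟩ := hext J _ hΦ hne
  have hmem : (J', insert C 𝓛) ∈ T := by
    refine ⟨sSupIndep_insert hindep hdisj, ?_, ?_⟩
    · rintro L (rfl | hL)
      exacts [hC, hpiece L hL]
    · show Φ J' (sSup (insert C 𝓛))
      rwa [sSup_insert, sup_comm]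
  exact absurd (hmax.le_of_ge hmem ⟨hJ'.subset, Set.subset_insert _ _⟩).1 hJ'.2

/-- Repeatedly enlarging a countable index set. -/
lemma exists_countable_closure {ι : Type*} (next : ι → Set ι) (hnext : ∀ i, (next i).Countable)
    (K₀ : Set ι) (hK₀ : K₀.Countable) :
    ∃ K : Set ι, K.Countable ∧ K₀ ⊆ K ∧ ∀ i ∈ K, next i ⊆ K := by
  let S : ℕ → Set ι := fun n => Nat.rec K₀ (fun _ S => ⋃ i ∈ S, next i) n
  have hS : ∀ n, (S n).Countable := by
    intro n
    induction n with
    | zero => exact hK₀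
    | succ n ih => exact ih.biUnion fun i _ => hnext i
  refine ⟨⋃ n, S n, Set.countable_iUnion hS, Set.subset_iUnion S 0, fun i hi j hj => ?_⟩
  obtain ⟨n, hn⟩ := Set.mem_iUnion.1 hi
  exact Set.mem_iUnion.2 ⟨n + 1, Set.mem_biUnion hn hj⟩

lemma exists_finset_mem_biSup {ι : Type*} (N : ι → Submodule R M) {x : M} (hx : x ∈ iSup N) :
    ∃ s : Finset ι, x ∈ ⨆ i ∈ (↑s : Set ι), N i := by
  obtain ⟨s, hs⟩ := Submodule.exists_finset_of_mem_iSup N hx
  exact ⟨s, by simpa using hs⟩

lemma exists_countable_mem_biSup {ι : Type*} (N : ι → Submodule R M) (htop : iSup N = ⊤) {P : Submodule R M}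
    (hP : CG P) : ∃ K : Set ι, K.Countable ∧ P ≤ ⨆ i ∈ K, N i := by
  obtain ⟨s, hs, rfl⟩ := hP
  choose t ht using fun x : M => exists_finset_mem_biSup N (x := x) (htop ▸ Submodule.mem_top)
  refine ⟨⋃ x ∈ s, (↑(t x) : Set ι), hs.biUnion fun x _ => (t x).countable_toSet,
    Submodule.span_le.2 fun x hx => ?_⟩
  exact biSup_mono (f := N) (fun i hi => Set.mem_biUnion hx hi) (ht x)

lemma isCompl_biSup_compl {ι : Type*} {N : ι → Submodule R M} (hind : iSupIndep N)
    (htop : iSup N = ⊤) (J : Set ι) : IsCompl (⨆ i ∈ J, N i) (⨆ i ∈ Jᶜ, N i) := by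
  refine ⟨hind.disjoint_biSup_biSup disjoint_compl_right, codisjoint_iff_le_sup.2 ?_⟩
  rw [← htop]
  refine iSup_le fun i => ?_
  by_cases h : i ∈ J
  · exact le_sup_of_le_left (le_biSup N h)
  · exact le_sup_of_le_right (le_biSup N h)

/-- Kaplansky: the image of an idempotent endomorphism of a direct sum of countably generated
modules is again such a direct sum. -/
theorem exists_decomposition_range {ι : Type u} (N : ι → Submodule R M) (hind : iSupIndep N)
    (htop : iSup N = ⊤) (hc : ∀ i, CG (N i)) (π : M →ₗ[R] M) (hπ : π ∘ₗ π = π) :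
    ∃ 𝓛 : Set (Submodule R M), sSupIndep 𝓛 ∧ (∀ L ∈ 𝓛, CG L) ∧ sSup 𝓛 = LinearMap.range π := by
  let MJ : Set ι → Submodule R M := fun J => ⨆ i ∈ J, N i
  have hππ : ∀ x, π (π x) = π x := fun x => congr($hπ x)
  suffices h : ∃ 𝓛 : Set (Submodule R M), sSupIndep 𝓛 ∧ (∀ L ∈ 𝓛, CG L) ∧
      ((MJ Set.univ).map π ≤ MJ Set.univ ∧ sSup 𝓛 = (MJ Set.univ).map π) by
    obtain ⟨𝓛, h1, h2, h3⟩ := h
    refine ⟨𝓛, h1, h2, h3.2.trans ?_⟩
    simp [MJ, htop]
  refine exists_internal_of_extend
    (fun J A => (MJ J).map π ≤ MJ J ∧ A = (MJ J).map π) CG (by simp [MJ]) ?_ ?_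
  · intro c _ _ hΦ
    have hU : MJ (⋃ z ∈ c, z.1) = ⨆ z ∈ c, MJ z.1 := by simp only [MJ, iSup_iUnion]
    refine ⟨?_, ?_⟩
    · rw [hU, Submodule.map_iSup]
      refine iSup_mono fun z => ?_
      rw [Submodule.map_iSup]
      exact iSup_mono fun hz => (hΦ z hz).1
    · rw [hU, Submodule.map_iSup]
      simp only [Submodule.map_iSup]
      exact iSup_congr fun z => iSup_congr fun hz => (hΦ z hz).2
  · rintro J A ⟨hJ, rfl⟩ hne
    obtain ⟨i, hi⟩ := (Set.ne_univ_iff_exists_notMem J).1 hne
    choose nx hnx hnx' using fun j => exists_countable_mem_biSup N htop ((hc j).map π)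
    obtain ⟨K, hK, hiK, hKcl⟩ := exists_countable_closure nx hnx {i} (Set.countable_singleton i)
    have hKπ : (MJ K).map π ≤ MJ K := by
      simp only [MJ, Submodule.map_iSup]
      exact iSup₂_le fun j hj => (hnx' j).trans (biSup_mono (hKcl j hj))
    have hcompl := isCompl_biSup_compl hind htop J
    let p : M →ₗ[R] M := Submodule.projection (MJ J) _ hcompl
    let r : M →ₗ[R] M := π ∘ₗ p
    have hr : ∀ a ∈ (MJ J).map π, r a = a := by
      rintro _ ⟨a, ha, rfl⟩
      show π (p (π a)) = π a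
      rw [show p (π a) = π a from
        Submodule.projection_apply_of_mem_left hcompl (hJ (Submodule.mem_map_of_mem ha)), hππ]
    have hrm : ∀ z, r z ∈ (MJ J).map π := fun z =>
      Submodule.mem_map_of_mem (Submodule.projection_apply_mem hcompl z)
    refine ⟨J ∪ K, ⟨Set.subset_union_left, fun h => hi (h (Or.inr (hiK rfl)))⟩,
      ((MJ K).map π).map (LinearMap.id - r), ((CG.biSup hK fun j _ => hc j).map π).map _, ?_, ?_, ?_⟩
    · rw [Submodule.disjoint_def]
      rintro y hy ⟨z, hz, rfl⟩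
      have h0 := hr _ hy
      simp only [LinearMap.sub_apply, LinearMap.id_apply, map_sub, hr _ (hrm z), sub_self] at h0
      exact h0.symm
    · have : MJ (J ∪ K) = MJ J ⊔ MJ K := iSup_union
      rw [this, Submodule.map_sup]
      exact sup_le_sup hJ hKπ
    · rw [show MJ (J ∪ K) = MJ J ⊔ MJ K from iSup_union, Submodule.map_sup]
      refine le_antisymm (sup_le le_sup_left ?_) (sup_le le_sup_left ?_)
      · rintro _ ⟨z, hz, rfl⟩
        exact sub_mem (Submodule.mem_sup_right hz) (Submodule.mem_sup_left (hrm z))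
      · intro z hz
        have : z = r z + (LinearMap.id - r : M →ₗ[R] M) z := by simp
        rw [this]
        exact add_mem (Submodule.mem_sup_left (hrm z))
          (Submodule.mem_sup_right ⟨z, hz, rfl⟩)

/-- An internal direct sum of submodules of a submodule, from a family in the ambient module. -/
lemma exists_isInternal_of_sSupIndep (P : Submodule R M) {𝓛 : Set (Submodule R M)}
    (h : sSupIndep 𝓛) (hc : ∀ L ∈ 𝓛, CG L) (hP : sSup 𝓛 = P) :
    ∃ (κ : Type u) (L : κ → Submodule R P),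
      DirectSum.IsInternal L ∧ ∀ k, IsCountablyGenerated R (L k) := by
  classical
  subst hP
  have hle : ∀ L : 𝓛, L.1 ≤ sSup 𝓛 := fun L => le_sSup L.2
  refine ⟨𝓛, fun L => Submodule.comap (sSup 𝓛).subtype L.1, ?_, fun L => ?_⟩
  · refine isInternal_of_indep_top ?_ ?_
    · intro L
      rw [disjoint_iff, ← (Submodule.map_injective_of_injective
        (sSup 𝓛).injective_subtype).eq_iff, Submodule.map_inf _ (sSup 𝓛).injective_subtype,
        Submodule.map_bot, ← disjoint_iff]
      refine ((sSupIndep_iff 𝓛).1 h L).mono (Submodule.map_comap_le _ _) ?_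
      simp only [Submodule.map_iSup]
      exact iSup_mono fun L' => iSup_mono fun _ => Submodule.map_comap_le _ _
    · refine Submodule.map_injective_of_injective (sSup 𝓛).injective_subtype ?_
      rw [Submodule.map_subtype_top, Submodule.map_iSup]
      simp only [Submodule.map_comap_subtype]
      refine le_antisymm (iSup_le fun L => inf_le_left) (sSup_le fun L hL => ?_)
      exact le_iSup_of_le ⟨L, hL⟩ (le_inf (le_sSup hL) le_rfl)
  · exact isCountablyGenerated_of_surjective
      (Submodule.comapSubtypeEquivOfLe (hle L)).symm.toLinearMap (LinearEquiv.surjective _)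
      ((cg_iff _).1 (hc _ L.2))

/-- Kaplansky's theorem for a direct summand. -/
theorem kaplansky {ι : Type u} (N : ι → Submodule R M) (hN : DirectSum.IsInternal N)
    (hc : ∀ i, IsCountablyGenerated R (N i)) (P Q : Submodule R M) (hPQ : IsCompl P Q) :
    ∃ (κ : Type u) (L : κ → Submodule R P),
      DirectSum.IsInternal L ∧ ∀ k, IsCountablyGenerated R (L k) := by
  classical
  obtain ⟨hind, htop⟩ := (DirectSum.isInternal_submodule_iff_iSupIndep_and_iSup_eq_top N).1 hN
  let π : M →ₗ[R] M := Submodule.projection P Q hPQ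
  have hπ : π ∘ₗ π = π := LinearMap.ext fun x =>
    Submodule.projection_apply_of_mem_left hPQ (Submodule.projection_apply_mem hPQ x)
  have hrange : LinearMap.range π = P := by
    refine le_antisymm ?_ fun x hx => ⟨x, Submodule.projection_apply_of_mem_left hPQ hx⟩
    rintro _ ⟨x, rfl⟩
    exact Submodule.projection_apply_mem hPQ x
  obtain ⟨𝓛, h1, h2, h3⟩ := exists_decomposition_range N hind htop
    (fun i => (cg_iff _).2 (hc i)) π hπ
  exact exists_isInternal_of_sSupIndep P h1 h2 (h3.trans hrange)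

section Devissage

variable {S : Type u} [LinearOrder S] [WellFoundedLT S] (Mf : S → Submodule R M)

/-- A dévissage with split steps is an internal direct sum of complements. -/
theorem devissage_internal (hmono : Monotone Mf)
    (hlim : ∀ s : S, Order.IsSuccPrelimit s → Mf s = ⨆ t : {t : S // t < s}, Mf t.1)
    (htop : (⨆ s, Mf s) = ⊤) (C : {p : S × S // p.1 ⋖ p.2} → Submodule R M)
    (hdisj : ∀ p, Disjoint (Mf p.1.1) (C p)) (hsup : ∀ p, Mf p.1.1 ⊔ C p = Mf p.1.2) :
    iSupIndep C ∧ iSup C = ⊤ := by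
  classical
  constructor
  · rw [iSupIndep_iff_forall_dfinsupp]
    intro p₀ x v hv
    have key : ∀ F : Finset {p : S × S // p.1 ⋖ p.2}, ∀ c : (p : _) → C p,
        (∑ p ∈ F, (c p : M)) = 0 → ∀ p ∈ F, (c p : M) = 0 := by
      intro F
      induction F using Finset.induction_on_max_value (fun p : {p : S × S // p.1 ⋖ p.2} => p.1.2) with
      | empty => simp
      | @insert a F ha hmax ih =>
        intro c hc0
        rw [Finset.sum_insert ha] at hc0
        have hrest : (∑ p ∈ F, (c p : M)) ∈ Mf a.1.1 := by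
          refine Submodule.sum_mem _ fun p hp => ?_
          have hmem : (c p : M) ∈ Mf p.1.2 := hsup p ▸ Submodule.mem_sup_right (c p).2
          rcases (hmax p hp).eq_or_lt with h | h
          · exfalso
            apply ha
            have h1 : a.1.1 = p.1.1 := by
              rcases lt_trichotomy a.1.1 p.1.1 with h1 | h1 | h1
              · exact absurd h1 fun h1 => a.2.2 h1 (h ▸ p.2.lt)
              · exact h1
              · exact absurd h1 fun h1 => p.2.2 h1 (h.symm ▸ a.2.lt)
            have : a = p := Subtype.ext (Prod.ext h1 h.symm)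
            rwa [this]
          · exact hmono (le_of_not_gt fun h1 => a.2.2 h1 h) hmem
        have hca : (c a : M) = 0 := by
          refine Submodule.disjoint_def.1 (hdisj a) _ ?_ (c a).2
          rw [eq_neg_of_add_eq_zero_left hc0]
          exact neg_mem hrest
        intro p hp
        rcases Finset.mem_insert.1 hp with rfl | hp
        · exact hca
        · exact ih c (by rwa [hca, zero_add] at hc0) p hp
    let w := DFinsupp.erase p₀ v
    let c : (p : {p : S × S // p.1 ⋖ p.2}) → C p := fun p => if h : p = p₀ then -(h ▸ x) else w p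
    have hx0 : (c p₀ : M) = -(x : M) := by simp [c]
    have hsum : ∑ p ∈ insert p₀ w.support, (c p : M) = 0 := by
      rw [Finset.sum_insert (by simp [w]), hx0, ← hv]
      have : ∑ p ∈ w.support, (c p : M) = ∑ p ∈ w.support, (w p : M) :=
        Finset.sum_congr rfl fun p hp => by
          have : p ≠ p₀ := fun h => by simp [w, h] at hp
          simp [c, this]
      rw [this, DFinsupp.lsum_apply_apply]
      simp only [DFinsupp.sumAddHom_apply, DFinsupp.sum, LinearMap.toAddMonoidHom_coe,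
        Submodule.subtype_apply]
      exact neg_add_cancel _
    have := key _ c hsum p₀ (Finset.mem_insert_self _ _)
    rw [hx0, neg_eq_zero] at this
    exact Subtype.ext this
  · refine eq_top_iff.2 (htop ▸ iSup_le fun s => ?_)
    induction s using WellFoundedLT.induction with
    | ind s ih =>
      by_cases hs : Order.IsSuccPrelimit s
      · rw [hlim s hs]
        exact iSup_le fun t => ih t.1 t.2
      · obtain ⟨t, ht⟩ := Order.not_isSuccPrelimit_iff.1 hs
        rw [← hsup ⟨(t, s), ht⟩]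
        exact sup_le (ih t ht.lt) (le_iSup C _)

/-- The complement is isomorphic to the successive quotient. -/
noncomputable def quotientEquiv {A C B : Submodule R M} (hd : Disjoint A C) (hs : A ⊔ C = B) :
    C ≃ₗ[R] (↥B ⧸ Submodule.comap B.subtype A) :=
  LinearEquiv.ofBijective
    ((Submodule.comap B.subtype A).mkQ ∘ₗ Submodule.inclusion (hs ▸ le_sup_right)) <| by
    constructor
    · rw [← LinearMap.ker_eq_bot, LinearMap.ker_eq_bot']
      intro c hc
      rw [LinearMap.comp_apply, Submodule.mkQ_apply, Submodule.Quotient.mk_eq_zero] at hc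
      exact Subtype.ext (Submodule.disjoint_def.1 hd _ hc c.2)
    · intro q
      obtain ⟨⟨b, hb⟩, rfl⟩ := Submodule.mkQ_surjective _ q
      obtain ⟨a, ha, c, hc, rfl⟩ := Submodule.mem_sup.1 (hs.symm ▸ hb : b ∈ A ⊔ C)
      refine ⟨⟨c, hc⟩, (Submodule.Quotient.eq _).2 ?_⟩
      simpa using neg_mem ha

theorem devissage_linearEquiv (hmono : Monotone Mf)
    (hlim : ∀ s : S, Order.IsSuccPrelimit s → Mf s = ⨆ t : {t : S // t < s}, Mf t.1)
    (htop : (⨆ s, Mf s) = ⊤)
    (hsplit : ∀ s t : S, s ⋖ t → ∃ C : Submodule R M, Mf s ⊓ C = ⊥ ∧ Mf s ⊔ C = Mf t) :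
    Nonempty (M ≃ₗ[R] DirectSum {p : S × S // p.1 ⋖ p.2} fun p =>
      ↥(Mf p.1.2) ⧸ Submodule.comap (Mf p.1.2).subtype (Mf p.1.1)) := by
  classical
  choose C hC1 hC2 using fun p : {p : S × S // p.1 ⋖ p.2} => hsplit _ _ p.2
  have hd := fun p => disjoint_iff.2 (hC1 p)
  obtain ⟨hi, ht⟩ := devissage_internal Mf hmono hlim htop C hd hC2
  have hb : Function.Bijective (DirectSum.coeLinearMap C) := by
    exact ⟨hi.dfinsupp_lsum_injective, (LinearMap.range_eq_top (f := DFinsupp.lsum _ _)).1
      ((Submodule.iSup_eq_range_dfinsupp_lsum _).symm.trans ht)⟩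
  let e := LinearEquiv.ofBijective (DirectSum.coeLinearMap C) hb
  exact ⟨e.symm ≪≫ₗ DFinsupp.mapRange.linearEquiv fun p => quotientEquiv (hd p) (hC2 p)⟩

end Devissage

/-- Well-ordering the summands gives a dévissage. -/
theorem internal_iff_devissage :
    (∃ (ι : Type u) (N : ι → Submodule R M), DirectSum.IsInternal N ∧
      ∀ i, IsCountablyGenerated R (N i)) ↔
    ∃ (S : Type u) (_ : LinearOrder S) (_ : WellFoundedLT S) (Mf : S → Submodule R M),
      Monotone Mf ∧ (∀ s : S, Order.IsSuccPrelimit s → Mf s = ⨆ t : {t : S // t < s}, Mf t.1) ∧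
      (⨆ s, Mf s) = ⊤ ∧ (∀ s t : S, s ⋖ t → ∃ C : Submodule R M, Mf s ⊓ C = ⊥ ∧ Mf s ⊔ C = Mf t ∧
        IsCountablyGenerated R (↥(Mf t) ⧸ Submodule.comap (Mf t).subtype (Mf s))) := by
  classical
  constructor
  · rintro ⟨ι, N, hN, hc⟩
    obtain ⟨hind, htop⟩ := (DirectSum.isInternal_submodule_iff_iSupIndep_and_iSup_eq_top N).1 hN
    let _ : LinearOrder ι := linearOrderOfSTO WellOrderingRel
    have : WellFoundedLT ι := ⟨WellOrderingRel.isWellOrder.wf⟩
    let Mf : WithTop ι → Submodule R M := fun s => ⨆ i ∈ {i : ι | (i : WithTop ι) < s}, N i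
    have hle : ∀ {i : ι} {s : WithTop ι}, (i : WithTop ι) < s → N i ≤ Mf s := fun h => le_biSup N h
    refine ⟨WithTop ι, inferInstance, inferInstance, Mf, fun s t hst => biSup_mono fun i hi =>
      lt_of_lt_of_le hi hst, fun s hs => le_antisymm (iSup₂_le fun i hi => ?_)
      (iSup_le fun t => biSup_mono fun i hi => lt_trans hi t.2), ?_, ?_⟩
    · obtain ⟨t, hit, hts⟩ : ∃ t, (i : WithTop ι) < t ∧ t < s := by
        by_contra hno
        exact hs (i : WithTop ι) ⟨hi, fun t h1 h2 => hno ⟨t, h1, h2⟩⟩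
      exact le_iSup_of_le ⟨t, hts⟩ (hle hit)
    · exact eq_top_iff.2 (htop ▸ iSup_le fun i => le_iSup_of_le ⊤ (hle (WithTop.coe_lt_top i)))
    · intro s t hst
      obtain ⟨i, rfl⟩ := WithTop.ne_top_iff_exists.1 hst.lt.ne_top
      have hd : Disjoint (Mf (i : WithTop ι)) (N i) :=
        (hind.disjoint_biSup (x := i) (y := {j : ι | (j : WithTop ι) < (i : WithTop ι)})
        (lt_irrefl (i : WithTop ι))).symm
      have hs : Mf (i : WithTop ι) ⊔ N i = Mf t := by
        refine le_antisymm (sup_le (biSup_mono fun j hj => lt_trans hj hst.lt) (hle hst.lt))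
          (iSup₂_le fun j hj => ?_)
        rcases lt_trichotomy (j : WithTop ι) i with h | h | h
        · exact le_sup_of_le_left (hle h)
        · exact le_sup_of_le_right (by rw [WithTop.coe_inj.1 h])
        · exact absurd hj fun hj => hst.2 h hj
      exact ⟨N i, disjoint_iff.1 hd, hs,
        isCountablyGenerated_of_surjective (quotientEquiv hd hs).toLinearMap
          (LinearEquiv.surjective _) (hc i)⟩
  · rintro ⟨S, _, _, Mf, hmono, hlim, htop, hsplit⟩
    choose C hC1 hC2 hC3 using fun p : {p : S × S // p.1 ⋖ p.2} => hsplit _ _ p.2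
    have hd := fun p => disjoint_iff.2 (hC1 p)
    obtain ⟨hi, ht⟩ := devissage_internal Mf hmono hlim htop C hd hC2
    exact ⟨_, C, isInternal_of_indep_top hi ht, fun p =>
      isCountablyGenerated_of_surjective (quotientEquiv (hd p) (hC2 p)).symm.toLinearMap
        (LinearEquiv.surjective _) (hC3 p)⟩

end Groth.Agent.CAlgML
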