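import Groth.Agent.CAlgML.UI
import Groth.Prelude.Def_Found
import Mathlib.LinearAlgebra.TensorProduct.Prod

/-! Mittag-Leffler modules (product definition). -/

namespace Groth.Agent.CAlgML

open TensorProduct LinearMap
open CAlgX (UniversallyInjective)
open CAlg (IsMittagLeffler)

universe u

variable {R : Type u} [CommRing R]
variable {M N P : Type u} [AddCommGroup M] [Module R M] [AddCommGroup N] [Module R N]
  [AddCommGroup P] [Module R P]

lemma ml_iff_zero :
    IsMittagLeffler R M ↔ ∀ (ι : Type u) (Q : ι → Type u) [∀ i, AddCommGroup (Q i)]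
      [∀ i, Module R (Q i)] (x : M ⊗[R] (∀ i, Q i)),
        (∀ i, piRightHom R R M Q x i = 0) → x = 0 := by
  constructor
  · intro h ι Q _ _ x hx
    exact h ι Q (by rw [map_zero]; exact funext hx)
  · intro h ι Q _ _
    rw [← LinearMap.ker_eq_bot, LinearMap.ker_eq_bot']
    intro x hx
    exact h ι Q x (fun i => by rw [hx]; rfl)

lemma ml_of_finitePresentation (M : Type u) [AddCommGroup M] [Module R M]
    [Module.FinitePresentation R M] : IsMittagLeffler R M := fun ι Q _ _ =>
  (piRightHom_bijective_of_finitePresentation M ι Q).1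

lemma ml_of_ui (f : M →ₗ[R] N) (hf : UniversallyInjective R f) (h : IsMittagLeffler R N) :
    IsMittagLeffler R M := by
  rw [ml_iff_zero] at h ⊢
  intro ι Q _ _ x hx
  apply hf
  rw [map_zero]
  exact h ι Q _ fun i => by rw [piRightHom_rTensor, hx, map_zero]

lemma ml_of_linearEquiv (e : M ≃ₗ[R] N) (h : IsMittagLeffler R N) : IsMittagLeffler R M :=
  ml_of_ui e.toLinearMap (UI.of_leftInverse e.symm.toLinearMap (by ext; simp)) h

/-- A test for Mittag-Leffler: every element is in the image of a map dominated by a map to a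
Mittag-Leffler module. -/
lemma ml_of_dominated
    (h : ∀ (ι : Type u) (Q : ι → Type u) [∀ i, AddCommGroup (Q i)] [∀ i, Module R (Q i)]
      (x : M ⊗[R] (∀ i, Q i)),
      ∃ (A B : Type u) (_ : AddCommGroup A) (_ : Module R A) (_ : AddCommGroup B) (_ : Module R B)
        (f : A →ₗ[R] M) (g : A →ₗ[R] B) (a : A ⊗[R] (∀ i, Q i)), f.rTensor _ a = x ∧
        IsMittagLeffler R B ∧
        ∀ (Q : Type u) [AddCommGroup Q] [Module R Q],
          LinearMap.ker (f.rTensor Q) = LinearMap.ker (g.rTensor Q)) :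
    IsMittagLeffler R M := by
  rw [ml_iff_zero]
  intro ι Q _ _ x hx
  obtain ⟨A, B, _, _, _, _, f, g, a, rfl, hB, hker⟩ := h ι Q x
  rw [← LinearMap.mem_ker, hker, LinearMap.mem_ker]
  refine ml_iff_zero.1 hB ι Q _ fun i => ?_
  rw [piRightHom_rTensor, ← LinearMap.mem_ker, ← hker, LinearMap.mem_ker, ← piRightHom_rTensor]
  exact hx i

/-- The domination condition for finite free modules implies Mittag-Leffler. -/
lemma ml_of_forall_free_dominate
    (h : ∀ (n : ℕ) (f : (Fin n → R) →ₗ[R] M),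
      ∃ (Q : Type u) (_ : AddCommGroup Q) (_ : Module R Q) (_ : Module.FinitePresentation R Q)
        (g : (Fin n → R) →ₗ[R] Q),
        ∀ (N : Type u) [AddCommGroup N] [Module R N],
          LinearMap.ker (f.rTensor N) = LinearMap.ker (g.rTensor N)) :
    IsMittagLeffler R M := by
  refine ml_of_dominated fun ι Q _ _ x => ?_
  obtain ⟨k, m, y, hy⟩ := exists_lTensor_fin_eq (TensorProduct.comm R _ _ x)
  obtain ⟨B, _, _, _, g, hg⟩ := h k m
  refine ⟨_, B, _, _, _, _, m, g, TensorProduct.comm R _ _ y, ?_, ml_of_finitePresentation B, hg⟩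
  apply (TensorProduct.comm R _ _).injective
  rw [← hy]
  generalize y = z
  induction z with
  | zero => simp
  | tmul a b => simp
  | add a b ha hb => simp [ha, hb]

/-- Dominating finitely presented factorizations exist for Mittag-Leffler modules. -/
theorem exists_dominating [Module.FinitePresentation R P] (hM : IsMittagLeffler R M)
    (f : P →ₗ[R] M) :
    ∃ (N : ℕ) (L : Submodule R (Fin N → R)) (_ : L.FG) (g : P →ₗ[R] (Fin N → R) ⧸ L)
      (h : ((Fin N → R) ⧸ L) →ₗ[R] M), f = h ∘ₗ g ∧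
      ∀ (Q : Type u) [AddCommGroup Q] [Module R Q],
        LinearMap.ker (f.rTensor Q) = LinearMap.ker (g.rTensor Q) := by
  classical
  let Fac := Σ N : ℕ, Σ L : {L : Submodule R (Fin N → R) // L.FG},
    {g : P →ₗ[R] (Fin N → R) ⧸ L.1 // ∃ h, f = h ∘ₗ g}
  by_contra hno
  have key : ∀ c : Fac, ∃ (Q : Type u) (_ : AddCommGroup Q) (_ : Module R Q) (x : P ⊗[R] Q),
      f.rTensor Q x = 0 ∧ c.2.2.1.rTensor Q x ≠ 0 := by
    rintro ⟨N, ⟨L, hL⟩, g, h, hgh⟩
    by_contra hc
    refine hno ⟨N, L, hL, g, h, hgh, fun Q _ _ => le_antisymm ?_ ?_⟩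
    · intro x hx
      by_contra hx'
      exact hc ⟨Q, _, _, x, hx, hx'⟩
    · rw [hgh, LinearMap.rTensor_comp]
      exact LinearMap.ker_le_ker_comp _ _
  choose Q iA iM x hx hgx using key
  let _ := iA
  let _ := iM
  obtain ⟨y, hy⟩ := (piRightHom_bijective_of_finitePresentation P Fac Q).2 x
  have hfy : f.rTensor _ y = 0 := ml_iff_zero.1 hM Fac Q _ fun c => by
    rw [piRightHom_rTensor, hy, hx]
  obtain ⟨N, L, hL, g, h, hgh, hgy⟩ := exists_finitePresentation_factor f y hfy
  apply hgx ⟨N, ⟨L, hL⟩, g, h, hgh⟩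
  have := piRightHom_rTensor g y (⟨N, ⟨L, hL⟩, g, h, hgh⟩ : Fac)
  rw [hgy, hy, map_zero] at this
  exact this.symm

theorem exists_dominating' [Module.FinitePresentation R P] (hM : IsMittagLeffler R M)
    (f : P →ₗ[R] M) :
    ∃ (Q : Type u) (_ : AddCommGroup Q) (_ : Module R Q) (_ : Module.FinitePresentation R Q)
      (g : P →ₗ[R] Q),
      ∀ (N : Type u) [AddCommGroup N] [Module R N],
        LinearMap.ker (f.rTensor N) = LinearMap.ker (g.rTensor N) := by
  obtain ⟨N, L, hL, g, h, -, hg⟩ := exists_dominating hM f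
  exact ⟨_, _, _, finitePresentation_quotient_pi hL, g, hg⟩

/-- `g` is killed whenever `f` is, after any tensor. -/
def Dominates (f : M →ₗ[R] N) (g : M →ₗ[R] P) : Prop :=
  ∀ (Q : Type u) [AddCommGroup Q] [Module R Q],
    LinearMap.ker (f.rTensor Q) ≤ LinearMap.ker (g.rTensor Q)

/-- The pushout map `P → P ⊕ N / M`. -/
def pushoutMap (f : M →ₗ[R] N) (g : M →ₗ[R] P) :
    P →ₗ[R] (P × N) ⧸ LinearMap.range (g.prod (-f)) :=
  (LinearMap.range (g.prod (-f))).mkQ ∘ₗ LinearMap.inl R P N

lemma ker_pushoutMap_rTensor (f : M →ₗ[R] N) (g : M →ₗ[R] P) (Q : Type u) [AddCommGroup Q]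
    [Module R Q] :
    LinearMap.ker ((pushoutMap f g).rTensor Q) =
      Submodule.map (g.rTensor Q) (LinearMap.ker (f.rTensor Q)) := by
  let e := TensorProduct.prodLeft R R P N Q
  have he : ∀ x, e ((g.prod (-f)).rTensor Q x) = (g.rTensor Q x, -f.rTensor Q x) := by
    intro x
    induction x with
    | zero => simp [Prod.zero_eq_mk]
    | tmul a b => simp [e, neg_tmul]
    | add a b ha hb => simp only [map_add, ha, hb, Prod.mk_add_mk, neg_add]
  have hinl : ∀ y, e ((LinearMap.inl R P N).rTensor Q y) = (y, 0) := by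
    intro y
    induction y with
    | zero => simp [Prod.zero_eq_mk]
    | tmul a b => simp [e]
    | add a b ha hb => simp only [map_add, ha, hb, Prod.mk_add_mk, add_zero]
  have hex := rTensor_exact Q (LinearMap.exact_map_mkQ_range (g.prod (-f)))
    (Submodule.mkQ_surjective _)
  ext y
  rw [LinearMap.mem_ker, pushoutMap, LinearMap.rTensor_comp, LinearMap.comp_apply, Submodule.mem_map]
  constructor
  · intro hy
    obtain ⟨x, hx⟩ := (hex _).1 hy
    have := congrArg e hx
    rw [he, hinl, Prod.ext_iff] at this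
    exact ⟨x, LinearMap.mem_ker.2 (neg_eq_zero.1 this.2), this.1⟩
  · rintro ⟨x, hx, rfl⟩
    refine (hex _).2 ⟨x, e.injective ?_⟩
    rw [he, hinl, LinearMap.mem_ker.1 hx, neg_zero]

theorem dominates_iff_ui_pushout (f : M →ₗ[R] N) (g : M →ₗ[R] P) :
    Dominates f g ↔ UniversallyInjective R (pushoutMap f g) := by
  refine forall_congr' fun Q => forall_congr' fun _ => forall_congr' fun _ => ?_
  rw [← LinearMap.ker_eq_bot, ker_pushoutMap_rTensor, ← le_bot_iff, Submodule.map_le_iff_le_comap,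
    Submodule.comap_bot]

theorem dominates_of_finitePresentation (f : M →ₗ[R] N) (g : M →ₗ[R] P)
    (h : ∀ (Q : Type u) [AddCommGroup Q] [Module R Q], Module.FinitePresentation R Q →
      LinearMap.ker (f.rTensor Q) ≤ LinearMap.ker (g.rTensor Q)) : Dominates f g := by
  rw [dominates_iff_ui_pushout]
  refine ui_of_finitePresentation _ fun Q _ _ hQ => ?_
  rw [← LinearMap.ker_eq_bot, ker_pushoutMap_rTensor, ← le_bot_iff, Submodule.map_le_iff_le_comap,
    Submodule.comap_bot]
  exact h Q hQ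

theorem dominates_of_comp (f : M →ₗ[R] N) (h : N →ₗ[R] P) : Dominates f (h ∘ₗ f) :=
  fun Q _ _ => by rw [LinearMap.rTensor_comp]; exact LinearMap.ker_le_ker_comp _ _

/-- A dominated map factors when the cokernel is finitely presented. -/
theorem exists_factor_of_dominates (f : M →ₗ[R] N) (g : M →ₗ[R] P)
    [Module.FinitePresentation R (N ⧸ LinearMap.range f)] (h : Dominates f g) :
    ∃ φ : N →ₗ[R] P, g = φ ∘ₗ f := by
  rw [dominates_iff_ui_pushout] at h
  let Z := (P × N) ⧸ LinearMap.range (g.prod (-f))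
  let i : P →ₗ[R] Z := pushoutMap f g
  let j : N →ₗ[R] Z := (LinearMap.range (g.prod (-f))).mkQ ∘ₗ LinearMap.inr R P N
  have hij : i ∘ₗ g = j ∘ₗ f := by
    refine LinearMap.ext fun m => (Submodule.Quotient.eq _).2 ⟨m, ?_⟩
    simp
  let q : Z →ₗ[R] N ⧸ LinearMap.range f :=
    Submodule.liftQ _ ((LinearMap.range f).mkQ ∘ₗ LinearMap.snd R P N) (by
      rintro _ ⟨m, rfl⟩
      simp)
  have hqmk : ∀ z : P × N, q ((LinearMap.range (g.prod (-f))).mkQ z) =
      (LinearMap.range f).mkQ z.2 := fun z => rfl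
  have hq : Function.Surjective q := by
    intro b
    obtain ⟨n, rfl⟩ := Submodule.mkQ_surjective _ b
    exact ⟨j n, hqmk (0, n)⟩
  have hexact : Function.Exact i q := by
    intro z
    constructor
    · obtain ⟨⟨p, n⟩, rfl⟩ := Submodule.mkQ_surjective _ z
      intro hz
      rw [hqmk, Submodule.mkQ_apply, Submodule.Quotient.mk_eq_zero] at hz
      obtain ⟨m, hm⟩ := hz
      dsimp only at hm
      subst hm
      refine ⟨p + g m, (Submodule.Quotient.eq _).2 ⟨m, ?_⟩⟩
      simp
    · rintro ⟨p, rfl⟩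
      exact (hqmk (p, 0)).trans (map_zero _)
  obtain ⟨s, hs⟩ := exists_section_of_ui i q hexact hq h
  have hinj : Function.Injective i := UI.injective h
  have hmem : ∀ z, z - s (q z) ∈ LinearMap.range i := fun z =>
    (hexact _).1 (by simp [show q (s (q z)) = q z from congr($hs (q z))])
  let r : Z →ₗ[R] P := (LinearEquiv.ofInjective i hinj).symm.toLinearMap ∘ₗ
    LinearMap.codRestrict (LinearMap.range i) (LinearMap.id - s ∘ₗ q) hmem
  have hri : ∀ p, r (i p) = p := by
    intro p
    apply (LinearEquiv.ofInjective i hinj).injective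
    simp only [r, LinearMap.comp_apply, LinearEquiv.coe_coe, LinearEquiv.apply_symm_apply]
    ext
    simp [hexact.apply_apply_eq_zero]
  refine ⟨r ∘ₗ j, ?_⟩
  rw [LinearMap.comp_assoc, ← hij]
  ext m
  simp [hri]

end Groth.Agent.CAlgML
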