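import Mathlib.LinearAlgebra.TensorProduct.Pi
import Mathlib.LinearAlgebra.TensorProduct.RightExactness
import Mathlib.Algebra.Module.FinitePresentation
import Mathlib.RingTheory.Finiteness.Basic

/-! Tensor products and arbitrary products. -/

namespace Groth.Agent.CAlgML

open TensorProduct LinearMap

universe u v w w'

variable {R : Type u} [CommRing R]

/-- Naturality of `piRightHom` in the left argument. -/
lemma piRightHom_rTensor {M N : Type*} [AddCommGroup M] [Module R M] [AddCommGroup N] [Module R N]
    {ι : Type*} {Q : ι → Type*} [∀ i, AddCommGroup (Q i)] [∀ i, Module R (Q i)]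
    (f : M →ₗ[R] N) (x : M ⊗[R] (∀ i, Q i)) (i : ι) :
    piRightHom R R N Q (f.rTensor _ x) i = f.rTensor (Q i) (piRightHom R R M Q x i) := by
  induction x with
  | zero => simp
  | tmul m q => simp
  | add a b ha hb => simp only [map_add, Pi.add_apply, ha, hb]

/-- Naturality of `piRightHom` in the family. -/
lemma piRightHom_lTensor {M : Type*} [AddCommGroup M] [Module R M]
    {ι : Type*} {Q Q' : ι → Type*} [∀ i, AddCommGroup (Q i)] [∀ i, Module R (Q i)]
    [∀ i, AddCommGroup (Q' i)] [∀ i, Module R (Q' i)]
    (u : ∀ i, Q i →ₗ[R] Q' i) (x : M ⊗[R] (∀ i, Q i)) (i : ι) :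
    piRightHom R R M Q' ((LinearMap.pi fun j => u j ∘ₗ LinearMap.proj j).lTensor M x) i
      = (u i).lTensor M (piRightHom R R M Q x i) := by
  induction x with
  | zero => simp
  | tmul m q => simp
  | add a b ha hb => simp only [map_add, Pi.add_apply, ha, hb]

lemma piRightHom_bijective_fin (n : ℕ) (ι : Type w) (Q : ι → Type w')
    [∀ i, AddCommGroup (Q i)] [∀ i, Module R (Q i)] :
    Function.Bijective (piRightHom R R (Fin n → R) Q) := by
  classical
  let e := fun j => TensorProduct.comm R (Fin n → R) (Q j) ≪≫ₗ piScalarRight R R (Q j) (Fin n)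
  let e' := TensorProduct.comm R (Fin n → R) (∀ j, Q j) ≪≫ₗ piScalarRight R R (∀ j, Q j) (Fin n)
  have key : ∀ x j i, e j (piRightHom R R (Fin n → R) Q x j) i = e' x i j := by
    intro x j i
    induction x with
    | zero => simp
    | tmul r q => simp [e, e']
    | add a b ha hb => simp only [map_add, Pi.add_apply, ha, hb]
  constructor
  · rw [← LinearMap.ker_eq_bot, LinearMap.ker_eq_bot']
    intro x hx
    apply e'.injective
    ext i j
    rw [map_zero, ← key, hx]
    simp
  · intro y
    refine ⟨e'.symm (fun i j => e j (y j) i), funext fun j => (e j).injective ?_⟩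
    ext i
    rw [key]
    simp

lemma piRightHom_surjective_of_finite (M : Type v) [AddCommGroup M] [Module R M] [Module.Finite R M]
    (ι : Type w) (Q : ι → Type w') [∀ i, AddCommGroup (Q i)] [∀ i, Module R (Q i)] :
    Function.Surjective (piRightHom R R M Q) := by
  obtain ⟨n, f, hf⟩ := Module.Finite.exists_fin' R M
  intro y
  choose z hz using fun j => LinearMap.rTensor_surjective (Q j) hf (y j)
  obtain ⟨x, hx⟩ := (piRightHom_bijective_fin n ι Q).2 z
  exact ⟨f.rTensor _ x, funext fun j => by rw [piRightHom_rTensor, hx, hz]⟩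

lemma piRightHom_bijective_of_finitePresentation (M : Type v) [AddCommGroup M] [Module R M]
    [Module.FinitePresentation R M]
    (ι : Type w) (Q : ι → Type w') [∀ i, AddCommGroup (Q i)] [∀ i, Module R (Q i)] :
    Function.Bijective (piRightHom R R M Q) := by
  obtain ⟨n, m, f, g, hf, hfg⟩ := Module.FinitePresentation.exists_fin' R M
  refine ⟨?_, piRightHom_surjective_of_finite M ι Q⟩
  rw [← LinearMap.ker_eq_bot, LinearMap.ker_eq_bot']
  intro x hx
  obtain ⟨y, rfl⟩ := LinearMap.rTensor_surjective _ hf x
  have hy : ∀ j, ∃ z, g.rTensor (Q j) z = piRightHom R R (Fin n → R) Q y j := fun j =>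
    (rTensor_exact (Q j) hfg hf (piRightHom R R (Fin n → R) Q y j)).1
      (by rw [← piRightHom_rTensor, hx]; rfl)
  choose z hz using hy
  obtain ⟨w, hw⟩ := (piRightHom_bijective_fin m ι Q).2 z
  have : g.rTensor _ w = y := (piRightHom_bijective_fin n ι Q).1
    (funext fun j => by rw [piRightHom_rTensor, hw, hz])
  exact (rTensor_exact _ hfg hf y).2 ⟨w, this⟩

lemma finite_of_piRightHom_surjective {M : Type v} [AddCommGroup M] [Module R M]
    (h : Function.Surjective (piRightHom R R M (fun _ : M => R))) : Module.Finite R M := by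
  classical
  obtain ⟨x, hx⟩ := h (fun m => m ⊗ₜ 1)
  obtain ⟨s, hs⟩ := exists_finset x
  refine ⟨⟨s.image Prod.fst, eq_top_iff.mpr fun m _ => ?_⟩⟩
  have h1 := congrArg (TensorProduct.rid R M) (congrFun hx m)
  simp only [hs, map_sum, piRightHom_tmul, Finset.sum_apply, rid_tmul, one_smul] at h1
  rw [← h1]
  exact Submodule.sum_mem _ fun i hi => Submodule.smul_mem _ _ <| Submodule.subset_span <| by
    simpa using ⟨i.2, hi⟩

lemma finitePresentation_of_piRightHom_bijective {M : Type u} [AddCommGroup M] [Module R M]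
    (h : ∀ ι : Type u, Function.Bijective (piRightHom R R M (fun _ : ι => R))) :
    Module.FinitePresentation R M := by
  classical
  have := finite_of_piRightHom_surjective (h M).2
  obtain ⟨n, f, hf⟩ := Module.Finite.exists_fin' R M
  refine Module.finitePresentation_of_free_of_surjective f hf ?_
  set K := LinearMap.ker f with hK
  obtain ⟨y, hy⟩ := (piRightHom_bijective_fin n K (fun _ : K => R)).2
    (fun k => (k : Fin n → R) ⊗ₜ[R] (1 : R))
  have h0 : f.rTensor _ y = 0 := (h K).1 (funext fun k => by
    rw [piRightHom_rTensor, hy]; simp [LinearMap.mem_ker.mp k.2])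
  obtain ⟨z, hz⟩ := (rTensor_exact (K → R) (LinearMap.exact_subtype_ker_map f) hf y).1 h0
  obtain ⟨s, hs⟩ := exists_finset z
  refine ⟨s.image (fun i => (i.1 : Fin n → R)), le_antisymm ?_ fun k hk => ?_⟩
  · rw [Submodule.span_le]
    intro a ha
    simp only [Finset.coe_image, Set.mem_image] at ha
    obtain ⟨i, _, rfl⟩ := ha
    exact i.1.2
  · have h1 := congrArg (TensorProduct.rid R (Fin n → R)) (congrFun hy ⟨k, hk⟩)
    rw [← hz, piRightHom_rTensor] at h1
    simp only [hs, map_sum, piRightHom_tmul, Finset.sum_apply, rTensor_tmul, Submodule.subtype_apply,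
      rid_tmul, one_smul] at h1
    rw [← h1]
    exact Submodule.sum_mem _ fun i hi => Submodule.smul_mem _ _ <| Submodule.subset_span <| Finset.mem_coe.mpr (Finset.mem_image_of_mem _ hi)

end Groth.Agent.CAlgML
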