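import Groth.Agent.CAlgML.Factor
import Groth.Prelude.Def_CAlgX
import Mathlib.RingTheory.Flat.EquationalCriterion

/-! Universally injective maps. -/

namespace Groth.Agent.CAlgML

open TensorProduct LinearMap
open CAlgX (UniversallyInjective)

universe u

variable {R : Type u} [CommRing R]
variable {M N P : Type u} [AddCommGroup M] [Module R M] [AddCommGroup N] [Module R N]
  [AddCommGroup P] [Module R P]

lemma rTensor_tmul_comm {M N Q : Type*} [AddCommGroup M] [Module R M] [AddCommGroup N] [Module R N]
    [AddCommGroup Q] [Module R Q] (f : M →ₗ[R] N) (x : M ⊗[R] Q) :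
    f.lTensor Q (TensorProduct.comm R M Q x) = TensorProduct.comm R N Q (f.rTensor Q x) := by
  induction x with
  | zero => simp
  | tmul m q => simp
  | add a b ha hb => simp [ha, hb]

lemma lTensor_rTensor_comm {A B C D : Type*} [AddCommGroup A] [Module R A] [AddCommGroup B]
    [Module R B] [AddCommGroup C] [Module R C] [AddCommGroup D] [Module R D]
    (f : A →ₗ[R] B) (g : C →ₗ[R] D) (x : A ⊗[R] C) :
    g.lTensor B (f.rTensor C x) = f.rTensor D (g.lTensor A x) := by
  rw [← LinearMap.comp_apply, ← LinearMap.comp_apply, LinearMap.lTensor_comp_rTensor,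
    LinearMap.rTensor_comp_lTensor]

lemma ui_iff_lTensor (f : M →ₗ[R] N) :
    UniversallyInjective R f ↔
      ∀ (Q : Type u) [AddCommGroup Q] [Module R Q], Function.Injective (f.lTensor Q) :=
  forall_congr' fun Q => forall_congr' fun _ => forall_congr' fun _ =>
    LinearMap.lTensor_inj_iff_rTensor_inj _ _ |>.symm

lemma UI.injective {f : M →ₗ[R] N} (hf : UniversallyInjective R f) : Function.Injective f := by
  intro a b h
  have := hf R (a₁ := a ⊗ₜ 1) (a₂ := b ⊗ₜ 1) (by simp [h])
  simpa using congrArg (TensorProduct.rid R M) this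

lemma UI.id : UniversallyInjective R (LinearMap.id : M →ₗ[R] M) := fun Q _ _ => by
  rw [LinearMap.rTensor_id]; exact Function.injective_id

lemma UI.comp {f : M →ₗ[R] N} {g : N →ₗ[R] P} (hf : UniversallyInjective R f)
    (hg : UniversallyInjective R g) : UniversallyInjective R (g ∘ₗ f) := fun Q _ _ => by
  rw [LinearMap.rTensor_comp]; exact (hg Q).comp (hf Q)

lemma UI.of_comp {f : M →ₗ[R] N} {g : N →ₗ[R] P} (h : UniversallyInjective R (g ∘ₗ f)) :
    UniversallyInjective R f := fun Q _ _ => by
  have := h Q
  rw [LinearMap.rTensor_comp] at this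
  exact Function.Injective.of_comp this

lemma UI.of_leftInverse {f : M →ₗ[R] N} (r : N →ₗ[R] M) (h : r ∘ₗ f = LinearMap.id) :
    UniversallyInjective R f := UI.of_comp (g := r) (h ▸ UI.id)

/-- It is enough to test universal injectivity on finitely presented modules. -/
theorem ui_of_finitePresentation (f : M →ₗ[R] N)
    (h : ∀ (Q : Type u) [AddCommGroup Q] [Module R Q], Module.FinitePresentation R Q →
      Function.Injective (f.rTensor Q)) : UniversallyInjective R f := by
  intro Q _ _
  rw [← LinearMap.ker_eq_bot, LinearMap.ker_eq_bot']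
  intro x hx
  obtain ⟨k, q, y, rfl⟩ := exists_lTensor_fin_eq x
  rw [← lTensor_rTensor_comm] at hx
  have h0 : q.rTensor N (TensorProduct.comm R _ _ (f.rTensor _ y)) = 0 := by
    have hc : TensorProduct.comm R _ _ (q.lTensor N (f.rTensor _ y)) = 0 := by simp [hx]
    rw [← hc]
    generalize f.rTensor _ y = z
    induction z with
    | zero => simp
    | tmul m n => simp
    | add a b ha hb => simp [ha, hb]
  obtain ⟨n, L, hL, q', h', rfl, hq'⟩ := exists_finitePresentation_factor q _ h0
  have hfp := finitePresentation_quotient_pi hL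
  have h1 : q'.lTensor N (f.rTensor _ y) = 0 := by
    apply (TensorProduct.comm R _ _).injective
    rw [map_zero, ← hq']
    generalize f.rTensor _ y = z
    induction z with
    | zero => simp
    | tmul m n => simp
    | add a b ha hb => simp [ha, hb]
  rw [lTensor_rTensor_comm] at h1
  rw [LinearMap.lTensor_comp, LinearMap.comp_apply,
    h _ hfp (h1.trans (map_zero _).symm), map_zero]

lemma piScalarRight_lTensor_mulVec {n m : ℕ} (M : Type*) [AddCommGroup M] [Module R M]
    (a : Fin n → Fin m → R) (w : M ⊗[R] (Fin m → R)) (i : Fin n) :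
    piScalarRight R R M (Fin n) ((Matrix.of a).mulVecLin.lTensor M w) i
      = ∑ j, a i j • piScalarRight R R M (Fin m) w j := by
  induction w with
  | zero => simp
  | tmul x v => simp [Matrix.mulVec, dotProduct, Finset.sum_smul, mul_smul]
  | add x y hx hy => simp only [map_add, Pi.add_apply, hx, hy, smul_add, Finset.sum_add_distrib]

lemma piScalarRight_rTensor {n : ℕ} {M N : Type*} [AddCommGroup M] [Module R M]
    [AddCommGroup N] [Module R N] (f : M →ₗ[R] N) (x : M ⊗[R] (Fin n → R)) (i : Fin n) :
    piScalarRight R R N (Fin n) (f.rTensor _ x) i = f (piScalarRight R R M (Fin n) x i) := by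
  induction x with
  | zero => simp
  | tmul x v => simp
  | add x y hx hy => simp only [map_add, Pi.add_apply, hx, hy]

/-- The equational criterion for universal injectivity. -/
def Equational (f : M →ₗ[R] N) : Prop :=
  ∀ (n m : ℕ) (x : Fin n → M) (y : Fin m → N) (a : Fin n → Fin m → R),
    (∀ i, f (x i) = ∑ j, a i j • y j) → ∃ z : Fin m → M, ∀ i, x i = ∑ j, a i j • z j

theorem equational_of_ui (f : M →ₗ[R] N) (hf : UniversallyInjective R f) : Equational f := by
  intro n m x y a h
  let A := (Matrix.of a).mulVecLin
  let q := (LinearMap.range A).mkQ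
  let xt := (piScalarRight R R M (Fin n)).symm x
  let yt := (piScalarRight R R N (Fin m)).symm y
  have hA : Function.Exact A q := LinearMap.exact_map_mkQ_range A
  have h1 : f.rTensor _ xt = A.lTensor N yt := by
    apply (piScalarRight R R N (Fin n)).injective
    ext i
    rw [piScalarRight_rTensor, piScalarRight_lTensor_mulVec]
    simp only [xt, yt, LinearEquiv.apply_symm_apply]
    exact h i
  have h2 : f.rTensor _ (q.lTensor M xt) = 0 := by
    rw [← lTensor_rTensor_comm, h1, ← LinearMap.comp_apply, ← LinearMap.lTensor_comp,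
      hA.linearMap_comp_eq_zero]
    simp
  have h3 : q.lTensor M xt = 0 := hf _ (h2.trans (map_zero _).symm)
  obtain ⟨z, hz⟩ := (lTensor_exact M hA (Submodule.mkQ_surjective _) xt).1 h3
  refine ⟨piScalarRight R R M (Fin m) z, fun i => ?_⟩
  rw [← piScalarRight_lTensor_mulVec M a z i, hz]
  simp [xt]

theorem ui_of_equational (f : M →ₗ[R] N) (hf : Equational f) : UniversallyInjective R f := by
  refine ui_of_finitePresentation f fun Q _ _ hQ => ?_
  obtain ⟨n, m, p, g, hp, hgp⟩ := Module.FinitePresentation.exists_fin' R Q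
  rw [← LinearMap.ker_eq_bot, LinearMap.ker_eq_bot']
  intro x hx
  obtain ⟨xt, rfl⟩ := LinearMap.lTensor_surjective M hp x
  rw [← lTensor_rTensor_comm] at hx
  obtain ⟨yt, hyt⟩ := (lTensor_exact N hgp hp _).1 hx
  let a : Fin n → Fin m → R := fun i j => g (Pi.single j 1) i
  have hg : (Matrix.of a).mulVecLin = g := by
    refine (Pi.basisFun R (Fin m)).ext fun j => funext fun i => ?_
    simp [a]
  obtain ⟨z, hz⟩ := hf n m (piScalarRight R R M (Fin n) xt) (piScalarRight R R N (Fin m) yt) a
    (fun i => by rw [← piScalarRight_rTensor, ← hyt, ← hg, piScalarRight_lTensor_mulVec])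
  have : xt = g.lTensor M ((piScalarRight R R M (Fin m)).symm z) := by
    apply (piScalarRight R R M (Fin n)).injective
    ext i
    rw [← hg, piScalarRight_lTensor_mulVec, LinearEquiv.apply_symm_apply]
    exact hz i
  rw [this, ← LinearMap.comp_apply, ← LinearMap.lTensor_comp, hgp.linearMap_comp_eq_zero]
  simp

theorem ui_iff_equational (f : M →ₗ[R] N) : UniversallyInjective R f ↔ Equational f :=
  ⟨equational_of_ui f, ui_of_equational f⟩

/-- A universally injective map with finitely presented cokernel splits. -/
theorem exists_section_of_ui [Module.FinitePresentation R P] (f : M →ₗ[R] N) (g : N →ₗ[R] P)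
    (hfg : Function.Exact f g) (hg : Function.Surjective g) (hf : UniversallyInjective R f) :
    ∃ s : P →ₗ[R] N, g ∘ₗ s = LinearMap.id := by
  classical
  obtain ⟨n, m, p, K, hp, hKp⟩ := Module.FinitePresentation.exists_fin' R P
  obtain ⟨l, hl⟩ := Module.projective_lifting_property g p hg
  have hlK : ∀ i, g (l (K (Pi.single i 1))) = 0 := fun i => by
    rw [← LinearMap.comp_apply, hl, hKp.apply_apply_eq_zero]
  choose x hx using fun i => (hfg _).1 (hlK i)
  obtain ⟨z, hz⟩ := equational_of_ui f hf m n x (fun j => l (Pi.single j 1))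
    (fun i j => K (Pi.single i 1) j) (fun i => by
      rw [hx]
      conv_lhs => rw [pi_eq_sum_univ (K (Pi.single i 1))]
      simp only [map_sum, map_smul, ← Pi.single_apply]
      congr! 3 with j
      funext k; simp [Pi.single_apply, eq_comm])
  let l' : (Fin n → R) →ₗ[R] N := l - f ∘ₗ Fintype.linearCombination R z
  have hl'K : ∀ a, l' (K a) = 0 := by
    have : l' ∘ₗ K = 0 := by
      refine (Pi.basisFun R (Fin m)).ext fun i => ?_
      simp only [l', Pi.basisFun_apply, LinearMap.comp_apply, LinearMap.sub_apply,
        Fintype.linearCombination_apply, ← hz i, hx, sub_self, LinearMap.zero_apply]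
    exact fun a => congr($this a)
  have hker : LinearMap.ker p ≤ LinearMap.ker l' := fun a ha => by
    obtain ⟨b, rfl⟩ := (hKp a).1 ha
    exact hl'K b
  refine ⟨(LinearMap.ker p).liftQ l' hker ∘ₗ (p.quotKerEquivOfSurjective hp).symm,
    LinearMap.ext fun b => ?_⟩
  obtain ⟨a, rfl⟩ := hp b
  have : (p.quotKerEquivOfSurjective hp).symm (p a) = (LinearMap.ker p).mkQ a :=
    (LinearEquiv.symm_apply_eq _).2 rfl
  simp [this, l', hfg.apply_apply_eq_zero, show g (l a) = p a from congr($hl a)]

lemma exists_free_cover (M : Type u) [AddCommGroup M] [Module R M] :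
    ∃ (F : Type u) (_ : AddCommGroup F) (_ : Module R F) (_ : Module.Free R F) (π : F →ₗ[R] M),
      Function.Surjective π :=
  ⟨M →₀ R, inferInstance, inferInstance, inferInstance, Finsupp.linearCombination R id,
    fun a => ⟨Finsupp.single a 1, by simp⟩⟩

/-- In a sequence ending in a flat module the first map is universally injective; only the injectivity
of `f` is needed besides. -/
theorem ui_of_flat_right (f : M →ₗ[R] N) (g : N →ₗ[R] P) (hf : Function.Injective f)
    (hfg : Function.Exact f g) (hg : Function.Surjective g) [Module.Flat R P] :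
    UniversallyInjective R f := by
  intro Q _ _
  rw [← LinearMap.ker_eq_bot, LinearMap.ker_eq_bot']
  intro x hx
  obtain ⟨F, _, _, _, π, hπ⟩ := exists_free_cover (R := R) Q
  have hex : Function.Exact (LinearMap.ker π).subtype π := LinearMap.exact_subtype_ker_map π
  obtain ⟨xt, rfl⟩ := LinearMap.lTensor_surjective M hπ x
  rw [← lTensor_rTensor_comm] at hx
  have e1 := lTensor_exact N hex hπ
  obtain ⟨y, hy⟩ := (e1 _).1 hx
  have hgy : g.rTensor _ y = 0 := by
    apply Module.Flat.lTensor_preserves_injective_linearMap (M := P) (LinearMap.ker π).subtype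
      (Submodule.injective_subtype _)
    rw [lTensor_rTensor_comm, hy, map_zero, ← LinearMap.comp_apply, ← LinearMap.rTensor_comp,
      hfg.linearMap_comp_eq_zero]
    simp
  obtain ⟨v, rfl⟩ := (rTensor_exact _ hfg hg y).1 hgy
  rw [lTensor_rTensor_comm] at hy
  rw [← Module.Flat.rTensor_preserves_injective_linearMap f hf hy, ← LinearMap.comp_apply,
    ← LinearMap.lTensor_comp, hex.linearMap_comp_eq_zero]
  simp

/-- The outer terms of a universally exact sequence with flat middle term are flat. -/
theorem flat_of_ui (f : M →ₗ[R] N) (g : N →ₗ[R] P) (hfg : Function.Exact f g)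
    (hg : Function.Surjective g) (hf : UniversallyInjective R f) [Module.Flat R N] :
    Module.Flat R M ∧ Module.Flat R P := by
  constructor
  · rw [Module.Flat.iff_rTensor_preserves_injective_linearMap]
    intro A B _ _ _ _ u hu
    rw [← LinearMap.ker_eq_bot, LinearMap.ker_eq_bot']
    intro x hx
    apply (ui_iff_lTensor f).1 hf A
    apply Module.Flat.rTensor_preserves_injective_linearMap u hu
    simp [← lTensor_rTensor_comm, hx]
  · rw [Module.Flat.iff_rTensor_preserves_injective_linearMap]
    intro A B _ _ _ _ u hu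
    rw [← LinearMap.ker_eq_bot, LinearMap.ker_eq_bot']
    intro x hx
    obtain ⟨w, rfl⟩ := LinearMap.lTensor_surjective A hg x
    rw [← lTensor_rTensor_comm] at hx
    obtain ⟨v, hv⟩ := (lTensor_exact B hfg hg _).1 hx
    have hq : (LinearMap.range u).mkQ.rTensor M v = 0 := by
      apply (ui_iff_lTensor f).1 hf
      rw [map_zero, lTensor_rTensor_comm, hv, ← LinearMap.comp_apply, ← LinearMap.rTensor_comp,
        (LinearMap.exact_map_mkQ_range u).linearMap_comp_eq_zero]
      simp
    obtain ⟨a, rfl⟩ := (rTensor_exact M (LinearMap.exact_map_mkQ_range u)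
      (Submodule.mkQ_surjective _) v).1 hq
    rw [lTensor_rTensor_comm] at hv
    rw [← Module.Flat.rTensor_preserves_injective_linearMap u hu hv, ← LinearMap.comp_apply,
      ← LinearMap.lTensor_comp, hfg.linearMap_comp_eq_zero]
    simp

/-- A product of universally injective maps is universally injective. -/
theorem ui_pi {ι : Type u} {A B : ι → Type u} [∀ i, AddCommGroup (A i)] [∀ i, Module R (A i)]
    [∀ i, AddCommGroup (B i)] [∀ i, Module R (B i)] (f : ∀ i, A i →ₗ[R] B i)
    (hf : ∀ i, UniversallyInjective R (f i)) :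
    UniversallyInjective R (LinearMap.pi fun i => f i ∘ₗ LinearMap.proj i) := by
  refine ui_of_finitePresentation _ fun Q _ _ hQ => ?_
  rw [← LinearMap.lTensor_inj_iff_rTensor_inj]
  intro a b h
  apply (piRightHom_bijective_of_finitePresentation Q ι A).1
  funext i
  apply (ui_iff_lTensor _).1 (hf i) Q
  rw [← piRightHom_lTensor, ← piRightHom_lTensor, h]

end Groth.Agent.CAlgML
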